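import Groth.Agent.Lib.WeilNum29.Refl

/-!
Ordinary Weil numbers: the middle coefficient is prime to `p`.
-/

open Polynomial

namespace Groth.Agent.WeilNum29

theorem natTrailingDegree_eq_iff {R : Type*} [Semiring R] {f : R[X]} (hf : f ≠ 0) {d : ℕ}
    (hd : ∀ j < d, f.coeff j = 0) : f.natTrailingDegree = d ↔ f.coeff d ≠ 0 := by
  refine ⟨fun h => h ▸ coeff_natTrailingDegree_ne_zero.mpr hf, fun h => ?_⟩
  refine le_antisymm (natTrailingDegree_le_of_ne_zero h) ?_
  exact not_lt.mp fun hlt => coeff_natTrailingDegree_ne_zero.mpr hf (hd _ hlt)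

variable (p : ℕ) [Fact p.Prime]

theorem ordinary_iff_valuation {K : Type*} [Field K] [IsAlgClosed K] [CharZero K] (v : Valuation K NNReal)
    (hvp : v (p : K) ≠ 1) (hvle : v (p : K) ≤ 1) {P : ℤ[X]} (hP : P.Monic) {d : ℕ}
    (hdeg : P.natDegree = 2 * d) (hlow : ∀ j < d, (p : ℤ) ∣ P.coeff j) :
    2 * Multiset.card ((P.aroots K).filter fun z => v z = 1) = P.natDegree ↔
      ¬ (p : ℤ) ∣ P.coeff d := by
  classical
  have hp : p.Prime := Fact.out
  let O := v.valuationSubring
  have hmax : ∀ x : O, IsLocalRing.residue O x = 0 ↔ v (x : K) ≠ 1 := by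
    intro x
    rw [IsLocalRing.residue_eq_zero_iff, IsLocalRing.mem_maximalIdeal, mem_nonunits_iff]
    refine not_congr ⟨fun hu => ?_, fun h1 => ?_⟩
    · obtain ⟨y, hy⟩ := hu.exists_right_inv
      have h := congrArg (fun z : O => v (z : K)) hy
      simp only [MulMemClass.coe_mul, map_mul, OneMemClass.coe_one, map_one] at h
      refine le_antisymm x.2 ?_
      calc (1 : NNReal) = v (x : K) * v (y : K) := h.symm
        _ ≤ v (x : K) * 1 := mul_le_mul_of_nonneg_left y.2 zero_le
        _ = v (x : K) := mul_one _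
    · have hne : (x : K) ≠ 0 := fun h0 => by rw [h0, map_zero] at h1; exact zero_ne_one h1
      have hinv : (x : K)⁻¹ ∈ O := by
        show v _ ≤ 1
        rw [map_inv₀, h1, inv_one]
      exact IsUnit.of_mul_eq_one (b := ⟨_, hinv⟩) (Subtype.ext (mul_inv_cancel₀ hne))
  set S := P.aroots (K) with hS
  have hSO : ∀ z ∈ S, z ∈ O := by
    intro z hz
    have hint : IsIntegral ℤ z := ⟨P, hP, (mem_aroots.mp hz).2⟩
    exact Valuation.Integers.mem_of_integral (Valuation.integer.integers v) hint.tower_top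
  obtain ⟨T, hT⟩ : ∃ T : Multiset O, T.map (fun z : O => (z : K)) = S := by
    refine ⟨S.attach.map fun z => ⟨z.1, hSO z.1 z.2⟩, ?_⟩
    rw [Multiset.map_map]
    exact Multiset.attach_map_val S
  have hcard : Multiset.card S = P.natDegree := by
    rw [hS, aroots_def, IsAlgClosed.card_roots_eq_natDegree, hP.natDegree_map]
  have hfac : P.map (Int.castRingHom O) = (T.map fun z => X - C z).prod := by
    refine Polynomial.map_injective O.subtype Subtype.coe_injective ?_
    rw [Polynomial.map_map, Subsingleton.elim (O.subtype.comp (Int.castRingHom O))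
      (algebraMap ℤ (K)), Polynomial.map_multiset_prod, Multiset.map_map]
    have h2 : T.map ((Polynomial.map O.subtype) ∘ fun z => X - C z) = S.map fun z => X - C z := by
      rw [← hT, Multiset.map_map]
      exact Multiset.map_congr rfl fun z _ => by simp
    rw [h2]
    exact (prod_multiset_X_sub_C_of_monic_of_roots_card_eq (hP.map _)
      IsAlgClosed.card_roots_eq_natDegree).symm
  let f := P.map (Int.castRingHom (IsLocalRing.ResidueField O))
  have hf : f = ((T.map (IsLocalRing.residue O)).map fun z => X - C z).prod := by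
    show P.map _ = _
    rw [Subsingleton.elim (Int.castRingHom (IsLocalRing.ResidueField O))
      ((IsLocalRing.residue O).comp (Int.castRingHom O)), ← Polynomial.map_map, hfac,
      Polynomial.map_multiset_prod, Multiset.map_map, Multiset.map_map]
    exact congrArg Multiset.prod (Multiset.map_congr rfl fun z _ => by simp)
  have hf0 : f ≠ 0 := (hP.map _).ne_zero
  have hroots : f.roots = T.map (IsLocalRing.residue O) := by
    rw [hf]; exact roots_multiset_prod_X_sub_C _
  have hcount : f.natTrailingDegree =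
      Multiset.card (S.filter fun z => ¬ v z = 1) := by
    rw [← rootMultiplicity_eq_natTrailingDegree', ← count_roots, hroots, Multiset.count_map, ← hT,
      Multiset.filter_map, Multiset.card_map]
    refine congrArg Multiset.card (Multiset.filter_congr fun z _ => ?_)
    rw [eq_comm, hmax, Function.comp_apply]
  haveI : CharP (IsLocalRing.ResidueField O) p := by
    have hp0 : ((p : ℕ) : IsLocalRing.ResidueField O) = 0 := by
      rw [← map_natCast (IsLocalRing.residue O), hmax]
      rw [show ((p : O) : K) = (p : K) from map_natCast O.subtype p]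
      exact hvp
    exact (CharP.charP_iff_prime_eq_zero hp).mpr hp0
  have hcoef : ∀ j, f.coeff j = 0 ↔ (p : ℤ) ∣ P.coeff j := fun j => by
    simp only [f, coeff_map, eq_intCast]
    exact CharP.intCast_eq_zero_iff _ p _
  have key := natTrailingDegree_eq_iff hf0 (d := d) fun j hj => (hcoef j).mpr (hlow j hj)
  rw [ne_eq, hcoef, hcount] at key
  rw [← key]
  have hsum : Multiset.card (S.filter fun z => v z = 1) +
      Multiset.card (S.filter fun z => ¬ v z = 1) = P.natDegree := by
    rw [← Multiset.card_add, Multiset.filter_add_not, hcard]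
  omega

variable {p}

theorem coeff_half {e : ℕ} (he : 0 < e) {P : ℤ[X]} (h : IsWeilPoly (p ^ e) P)
    (hnr : ∀ z ∈ P.aroots ℂ, z.im ≠ 0) :
    ∀ r ≤ P.natDegree / 2,
      P.coeff (P.natDegree / 2 - r) = (p : ℤ) ^ (e * r) * P.coeff (P.natDegree / 2 + r) := by
  obtain ⟨hev, h0⟩ := h.of_nonreal hnr
  have hp : p ≠ 0 := (Fact.out : p.Prime).ne_zero
  obtain ⟨d, hd⟩ := hev
  have hd2 : P.natDegree / 2 = d := by omega
  rw [hd2] at h0 ⊢
  obtain ⟨ε, -, hc, hε⟩ := h.exists_sign (pow_ne_zero e hp) (D := d) (by omega)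
  rw [h0] at hc
  have hq : (((p ^ e : ℕ) : ℤ)) ^ d ≠ 0 := pow_ne_zero _ (by positivity)
  have hε1 : ε = 1 := mul_right_cancel₀ hq (by rw [one_mul]; exact hc.symm)
  intro r hr
  rw [hε r hr, hε1, one_mul, pow_mul]
  push_cast
  rfl

theorem ordinary_iff_weil {e : ℕ} (he : 0 < e) {P : ℤ[X]} (h : IsWeilPoly (p ^ e) P)
    (hnr : ∀ z ∈ P.aroots ℂ, z.im ≠ 0) :
    2 * Multiset.card ((P.aroots (PadicAlgCl p)).filter fun z => ‖z‖ = 1) = P.natDegree ↔
      ¬ (p : ℤ) ∣ P.coeff (P.natDegree / 2) := by
  obtain ⟨hev, -⟩ := h.of_nonreal hnr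
  obtain ⟨d, hd⟩ := hev
  have hd2 : P.natDegree / 2 = d := by omega
  rw [hd2]
  have hvp : (Valued.v : Valuation (PadicAlgCl p) NNReal) (p : PadicAlgCl p) = 1 / (p : NNReal) :=
    PadicAlgCl.valuation_p p
  have hp1 : (1 : NNReal) < (p : NNReal) := by exact_mod_cast (Fact.out : p.Prime).one_lt
  have hfilt : ((P.aroots (PadicAlgCl p)).filter fun z => ‖z‖ = 1) =
      (P.aroots (PadicAlgCl p)).filter fun z => (Valued.v : Valuation (PadicAlgCl p) NNReal) z = 1 :=
    Multiset.filter_congr fun z _ => by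
      rw [← PadicAlgCl.valuation_coe]
      exact NNReal.coe_eq_one
  rw [hfilt]
  refine ordinary_iff_valuation p _ (by rw [hvp, one_div]; exact (inv_lt_one_of_one_lt₀ hp1).ne)
    (by rw [hvp, one_div]; exact (inv_lt_one_of_one_lt₀ hp1).le) h.1 (by omega) fun j hj => ?_
  have := coeff_half he h hnr (d - j) (by omega)
  rw [hd2, show d - (d - j) = j by omega] at this
  rw [this]
  exact Dvd.dvd.mul_right (dvd_pow_self _ (Nat.mul_ne_zero (by omega) (by omega))) _

end Groth.Agent.WeilNum29
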