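import Groth.Agent.Lib.WeilNum29.Order
import Groth.Agent.Lib.Goren15.LCI
import Groth.Agent.Lib.VarDim.Alg

/-!
Gorenstein property of `ℤ[π, q/π]`.
-/

open MvPolynomial

namespace Groth.Agent.WeilNum29

universe u

theorem isGorensteinRing_uliftInt : LocCoh.IsGorensteinRing (ULift.{u} ℤ) := by
  haveI : IsPrincipalIdealRing (ULift.{u} ℤ) :=
    IsPrincipalIdealRing.of_surjective (ULift.ringEquiv.symm : ℤ ≃+* ULift.{u} ℤ).toRingHom
      (ULift.ringEquiv.symm : ℤ ≃+* ULift.{u} ℤ).surjective
  haveI : IsDomain (ULift.{u} ℤ) := (ULift.ringEquiv : ULift.{u} ℤ ≃+* ℤ).isDomain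
  refine ⟨fun p _ => ?_⟩
  haveI : IsDomain (Localization.AtPrime p) :=
    IsLocalization.isDomain_localization p.primeCompl_le_nonZeroDivisors
  haveI : IsPrincipalIdealRing (Localization.AtPrime p) := ⟨fun I => by
    obtain ⟨a, ha⟩ := (IsPrincipalIdealRing.principal (I.comap (algebraMap (ULift.{u} ℤ) _))).principal
    refine ⟨⟨algebraMap _ _ a, ?_⟩⟩
    rw [← IsLocalization.map_under p.primeCompl (Localization.AtPrime p) I]
    show Ideal.map _ (I.comap _) = _
    rw [ha, Ideal.submodule_span_eq, Ideal.map_span, Set.image_singleton]⟩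
  exact Groth.Agent.S0342.result _

/-- quotient by a regular sequence of length two -/
theorem isGorensteinRing_of_pair {R : Type u} [CommRing R] [LocCoh.IsGorensteinRing R] {B : Type u}
    [CommRing B] (π : R →+* B) (hπ : Function.Surjective π) (f g : R)
    (hker : RingHom.ker π = Ideal.span {f, g}) (hf : f ∈ nonZeroDivisors R)
    (hg : Ideal.Quotient.mk (Ideal.span {f}) g ∈ nonZeroDivisors (R ⧸ Ideal.span {f})) :
    LocCoh.IsGorensteinRing B := by
  haveI : LocCoh.IsGorensteinRing (R ⧸ Ideal.span {f}) :=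
    Groth.Agent.Goren15.isGorensteinRing_of_surjective (Ideal.Quotient.mk (Ideal.span {f}))
      Ideal.Quotient.mk_surjective f Ideal.mk_ker hf
  have hle : ∀ x ∈ Ideal.span {f}, π x = 0 := fun x hx => by
    rw [← RingHom.mem_ker, hker]
    exact Ideal.span_mono (Set.singleton_subset_iff.mpr (Set.mem_insert _ _)) hx
  refine Groth.Agent.Goren15.isGorensteinRing_of_surjective (Ideal.Quotient.lift _ π hle)
    (Ideal.Quotient.lift_surjective_of_surjective _ hle hπ) (Ideal.Quotient.mk _ g) ?_ hg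
  have : (Ideal.span {f, g}).map (Ideal.Quotient.mk (Ideal.span {f})) =
      Ideal.span {Ideal.Quotient.mk (Ideal.span {f}) g} := by
    rw [Ideal.map_span, Set.image_insert_eq, Set.image_singleton,
      Ideal.Quotient.eq_zero_iff_mem.mpr (Ideal.mem_span_singleton_self f), Ideal.span_insert_zero]
  rw [← this, ← hker]
  exact Ideal.ker_quotient_lift π hle

variable {q : ℤ} {D : ℕ} {P : Polynomial ℤ} {h : P2}

theorem isGorensteinRing_range (d : Datum q D P h) {S : Type u} [CommRing S] (F : P2 →ₐ[ℤ] S)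
    (hF : RingHom.ker F = Ideal.span {fq q, h}) : LocCoh.IsGorensteinRing F.range := by
  haveI := isGorensteinRing_uliftInt.{u}
  haveI := Groth.Agent.Goren15.isGorensteinRing_mvPolynomial (ULift.{u} ℤ) 2
  let σ : MvPolynomial (Fin 2) (ULift.{u} ℤ) ≃+* P2 :=
    MvPolynomial.mapEquiv (Fin 2) ULift.ringEquiv
  have hsymm : ∀ x : P2, σ (σ.symm x) = x := σ.apply_symm_apply
  refine isGorensteinRing_of_pair (F.rangeRestrict.toRingHom.comp σ.toRingHom)
    (F.rangeRestrict_surjective.comp σ.surjective) (σ.symm (fq q)) (σ.symm h) ?_ ?_ ?_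
  · ext x
    rw [RingHom.mem_ker]
    have e : Ideal.span {σ.symm (fq q), σ.symm h} = Ideal.comap σ (Ideal.span {fq q, h}) := by
      refine Eq.trans ?_ (Ideal.map_symm σ)
      rw [Ideal.map_span, Set.image_pair]
    rw [e, Ideal.mem_comap, ← hF, RingHom.mem_ker, Subtype.ext_iff]
    rfl
  · haveI : IsDomain (ULift.{u} ℤ) := (ULift.ringEquiv : ULift.{u} ℤ ≃+* ℤ).isDomain
    exact mem_nonZeroDivisors_of_ne_zero
      ((map_ne_zero_iff _ σ.symm.injective).mpr fq_ne_zero)
  · rw [mem_nonZeroDivisors_iff_right]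
    intro x hx
    obtain ⟨x, rfl⟩ := Ideal.Quotient.mk_surjective x
    rw [← map_mul, Ideal.Quotient.eq_zero_iff_mem, Ideal.mem_span_singleton] at hx
    rw [Ideal.Quotient.eq_zero_iff_mem, Ideal.mem_span_singleton]
    have h1 : σ x * h ∈ Ideal.span {fq q} := by
      have := map_dvd σ hx
      rwa [hsymm, map_mul, hsymm, ← Ideal.mem_span_singleton] at this
    haveI := fq_prime d.q_ne
    have h2 : h ∉ Ideal.span {fq q} := fun hh => by
      have hp := d.phi_eq
      rw [← ker_phi d.q_ne, RingHom.mem_ker] at hh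
      rw [hh, mul_zero] at hp
      exact d.monic.ne_zero (aeval_ratFuncX_eq_zero hp.symm)
    have h3 := ((fq_prime d.q_ne).mem_or_mem h1).resolve_right h2
    have := map_dvd σ.symm (Ideal.mem_span_singleton.mp h3)
    rwa [σ.symm_apply_apply] at this

end Groth.Agent.WeilNum29
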