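import Groth.Agent.Lib.WeilNum29.Order

/-!
Modules over `ℤ[π, q/π]`.
-/

open MvPolynomial

namespace Groth.Agent.WeilNum29

universe u

theorem exists_module {q : ℤ} {D : ℕ} {P : Polynomial ℤ} {h : P2} (d : Datum q D P h)
    (hP0 : P.coeff 0 ≠ 0) {S : Type u} [CommRing S] (F : P2 →ₐ[ℤ] S)
    (hF : RingHom.ker F = Ideal.span {fq q, h}) {T : Type} [AddCommGroup T] [Module.Finite ℤ T]
    [Module.Free ℤ T] (FT VT : Module.End ℤ T) (hP : Polynomial.aeval FT P = 0)
    (hV : FT * VT = q • 1) :
    ∃ _ : Module F.range T, ∀ t : T,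
      (⟨F (X 0), AlgHom.mem_range_self _ _⟩ : F.range) • t = FT t := by
  have hinj : Function.Injective FT := by
    refine (injective_iff_map_eq_zero FT).mpr fun t ht => ?_
    obtain ⟨Q, hQ⟩ := Polynomial.X_dvd_sub_C (p := P)
    have h1 := LinearMap.congr_fun hP t
    rw [eq_add_of_sub_eq hQ, mul_comm, map_add, map_mul, Polynomial.aeval_X, Polynomial.aeval_C,
      LinearMap.add_apply, Module.End.mul_apply, ht, map_zero, zero_add, LinearMap.zero_apply,
      Module.algebraMap_end_apply] at h1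
    exact (smul_eq_zero.mp h1).resolve_left hP0
  have hVF : VT * FT = q • 1 := by
    refine LinearMap.ext fun t => hinj ?_
    have := LinearMap.congr_fun hV (FT t)
    rw [Module.End.mul_apply, LinearMap.smul_apply, Module.End.one_apply] at this
    rw [Module.End.mul_apply, this, LinearMap.smul_apply, Module.End.one_apply, map_zsmul]
  have hcomm : ∀ a ∈ ({FT, VT} : Set (Module.End ℤ T)), ∀ b ∈ ({FT, VT} : Set (Module.End ℤ T)),
      a * b = b * a := by
    rintro a (rfl | rfl) b (rfl | rfl) <;> simp [hV, hVF]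
  letI : CommRing (Algebra.adjoin ℤ ({FT, VT} : Set (Module.End ℤ T))) :=
    Algebra.adjoinCommRingOfComm ℤ hcomm
  let ev : P2 →+* Algebra.adjoin ℤ ({FT, VT} : Set (Module.End ℤ T)) :=
    eval₂Hom (Int.castRingHom _) ![⟨FT, Algebra.subset_adjoin (Set.mem_insert _ _)⟩,
      ⟨VT, Algebra.subset_adjoin (Set.mem_insert_of_mem _ rfl)⟩]
  let g : P2 →+* Module.End ℤ T :=
    (Algebra.adjoin ℤ ({FT, VT} : Set (Module.End ℤ T))).val.toRingHom.comp ev
  have g0 : g (X 0) = FT := by simp [g, ev]
  have g1 : g (X 1) = VT := by simp [g, ev]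
  have gC : ∀ c : ℤ, g (C c) = c • 1 := fun c => by
    exact (map_intCast (g.comp (C : ℤ →+* P2)) c).trans (zsmul_one c).symm
  have gf : g (fq q) = 0 := by rw [fq, map_sub, map_mul, g0, g1, gC, hV, sub_self]
  have gP : g (Polynomial.aeval (X 0 : P2) P) = 0 := by
    rw [← hP, ← g0]
    exact (Polynomial.aeval_algHom_apply g.toIntAlgHom (X 0) P).symm
  have gh : g h = 0 := by
    obtain ⟨c, hc⟩ := Ideal.mem_span_singleton.mp d.hh
    have := congrArg g hc
    rw [map_sub, map_mul, map_pow, g0, gP, sub_zero, map_mul, gf, zero_mul] at this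
    refine LinearMap.ext fun t => ?_
    have ht := LinearMap.congr_fun this t
    rw [Module.End.mul_apply, LinearMap.zero_apply, Module.End.pow_apply] at ht
    exact (hinj.iterate D) (ht.trans (iterate_map_zero FT D).symm)
  have hle : RingHom.ker F.rangeRestrict.toRingHom ≤ RingHom.ker g := by
    intro x hx
    have : x ∈ RingHom.ker F := congrArg Subtype.val hx
    rw [hF] at this
    refine (Ideal.span_le (I := RingHom.ker g)).mpr ?_ this
    rintro y (rfl | rfl)
    · exact gf
    · exact gh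
  let G : F.range →+* Module.End ℤ T :=
    F.rangeRestrict.toRingHom.liftOfSurjective F.rangeRestrict_surjective ⟨g, hle⟩
  refine ⟨Module.compHom T G, fun t => ?_⟩
  show G _ t = FT t
  rw [← g0]
  exact LinearMap.congr_fun
    (RingHom.liftOfSurjective_comp_apply F.rangeRestrict.toRingHom F.rangeRestrict_surjective ⟨g, hle⟩
      (X 0)) t

theorem conditions_of_module {q : ℤ} {P : Polynomial ℤ} {S : Type u} [CommRing S] (F : P2 →ₐ[ℤ] S)
    (hPF : F (Polynomial.aeval (X 0 : P2) P) = 0) (hfF : F (fq q) = 0) {T : Type} [AddCommGroup T]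
    (FT : T →ₗ[ℤ] T) (M : Module F.range T)
    (hFT : ∀ t : T, (⟨F (X 0), AlgHom.mem_range_self _ _⟩ : F.range) • t = FT t) :
    Polynomial.aeval FT P = 0 ∧ ∃ VT : T →ₗ[ℤ] T, FT ∘ₗ VT = q • LinearMap.id := by
  let g : P2 →+* Module.End ℤ T :=
    ((@Module.toAddMonoidEnd F.range T _ _ M).comp F.rangeRestrict.toRingHom) |>
      ((addMonoidEndRingEquivInt T).toRingHom.comp ·)
  have hg : ∀ x t, g x t = F.rangeRestrict x • t := fun x t => rfl
  have g0 : g (X 0) = FT := LinearMap.ext fun t => (hg _ _).trans (hFT t)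
  have hz : ∀ x, F x = 0 → g x = 0 := fun x hx => LinearMap.ext fun t => by
    rw [hg, show F.rangeRestrict x = 0 from Subtype.ext hx, zero_smul, LinearMap.zero_apply]
  refine ⟨?_, g (X 1), ?_⟩
  · rw [← g0]
    exact (Polynomial.aeval_algHom_apply g.toIntAlgHom (X 0) P).trans (hz _ hPF)
  · have h1 := hz _ hfF
    have gC : g (C q) = (q : Module.End ℤ T) := map_intCast (g.comp (C : ℤ →+* P2)) q
    rw [fq, map_sub, map_mul, g0, sub_eq_zero, gC] at h1
    refine (show FT * g (X 1) = q • (1 : Module.End ℤ T) from ?_)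
    rw [h1, zsmul_one]

end Groth.Agent.WeilNum29
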