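import Groth.Agent.Lib.WeilNum29.Refl

/-!
The minimal central order `ℤ[π, q/π]` as a quotient of `ℤ[X, Y]/(XY - q)`.
-/

open MvPolynomial

namespace Groth.Agent.WeilNum29

/-- fix the `ℤ`-algebra structure used on rational functions -/
@[reducible] noncomputable def ratFuncIntAlgebra : Algebra ℤ (RatFunc ℚ) := Ring.toIntAlgebra _

attribute [local instance 10000] ratFuncIntAlgebra

abbrev P2 := MvPolynomial (Fin 2) ℤ

/-- `XY - q` -/
noncomputable def fq (q : ℤ) : P2 := X 0 * X 1 - C q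

/-- the monomial basis of a window of Laurent exponents `-M, ..., M-1` -/
noncomputable def bvec (M : ℕ) : Fin M ⊕ Fin M → P2 :=
  Sum.elim (fun i => X 0 ^ (i : ℕ)) (fun i => X 1 ^ ((i : ℕ) + 1))

/-- the combination -/
noncomputable def comb (M : ℕ) (a : Fin M ⊕ Fin M → ℤ) : P2 := ∑ b, a b • bvec M b

/-- the one-variable polynomial -/
noncomputable def Gpoly (q : ℤ) (M : ℕ) (a : Fin M ⊕ Fin M → ℤ) : Polynomial ℤ :=
  ∑ i : Fin M, Polynomial.C (a (Sum.inl i)) * Polynomial.X ^ (M + (i : ℕ)) +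
  ∑ i : Fin M, Polynomial.C (a (Sum.inr i) * q ^ ((i : ℕ) + 1)) * Polynomial.X ^ (M - ((i : ℕ) + 1))

variable {q : ℤ} {M : ℕ}

lemma degree_Gpoly_lt (a : Fin M ⊕ Fin M → ℤ) : (Gpoly q M a).degree < (2 * M : ℕ) := by
  rw [Polynomial.degree_lt_iff_coeff_zero]
  intro m hm
  simp only [Gpoly, Polynomial.coeff_add, Polynomial.finsetSum_coeff, Polynomial.coeff_C_mul_X_pow]
  rw [Finset.sum_eq_zero, Finset.sum_eq_zero, add_zero]
  · intro i _; rw [if_neg]; omega
  · intro i _; rw [if_neg]; omega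

lemma coeff_Gpoly_add (a : Fin M ⊕ Fin M → ℤ) (i : Fin M) :
    (Gpoly q M a).coeff (M + (i : ℕ)) = a (Sum.inl i) := by
  simp only [Gpoly, Polynomial.coeff_add, Polynomial.finsetSum_coeff, Polynomial.coeff_C_mul_X_pow]
  rw [Finset.sum_eq_single i, Finset.sum_eq_zero, add_zero, if_pos rfl]
  · intro j _; rw [if_neg]; omega
  · intro j _ hj; rw [if_neg]; intro h; exact hj (Fin.ext (by omega))
  · simp

lemma coeff_Gpoly_sub (a : Fin M ⊕ Fin M → ℤ) (i : Fin M) :
    (Gpoly q M a).coeff (M - ((i : ℕ) + 1)) = a (Sum.inr i) * q ^ ((i : ℕ) + 1) := by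
  simp only [Gpoly, Polynomial.coeff_add, Polynomial.finsetSum_coeff, Polynomial.coeff_C_mul_X_pow]
  rw [Finset.sum_eq_zero, Finset.sum_eq_single i, zero_add, if_pos rfl]
  · intro j _ hj; rw [if_neg]; intro h; exact hj (Fin.ext (by omega))
  · simp
  · intro j _; rw [if_neg]; omega

lemma eq_zero_of_Gpoly (hq : q ≠ 0) {a : Fin M ⊕ Fin M → ℤ} (h : Gpoly q M a = 0) : a = 0 := by
  funext b
  rcases b with i | i
  · have := coeff_Gpoly_add (q := q) a i; rw [h, Polynomial.coeff_zero] at this; exact this.symm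
  · have := coeff_Gpoly_sub (q := q) a i
    rw [h, Polynomial.coeff_zero] at this
    exact (mul_eq_zero.mp this.symm).resolve_right (pow_ne_zero _ hq)

lemma pow_mul_aeval_comb {K : Type*} [Field K] {x : K} (hx : x ≠ 0) (a : Fin M ⊕ Fin M → ℤ) :
    x ^ M * aeval ![x, (q : K) / x] (comb M a) = Polynomial.aeval x (Gpoly q M a) := by
  simp only [comb, Gpoly, map_sum, map_add, Fintype.sum_sum_type, mul_add, Finset.mul_sum]
  congr 1
  · refine Finset.sum_congr rfl fun i _ => ?_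
    simp [bvec, pow_add, mul_left_comm]
  · refine Finset.sum_congr rfl fun i _ => ?_
    have hi : x ^ M = x ^ (M - ((i : ℕ) + 1)) * x ^ ((i : ℕ) + 1) := by
      rw [← pow_add, Nat.sub_add_cancel (by omega)]
    simp [bvec, zsmul_eq_mul, div_pow, hi]
    field_simp

/-- the window submodule modulo an ideal -/
noncomputable def window (M : ℕ) (J : Ideal P2) : Submodule ℤ P2 :=
  Submodule.span ℤ (Set.range (bvec M)) ⊔ J.restrictScalars ℤ

lemma exists_of_mem_window {J : Ideal P2} {x : P2} (hx : x ∈ window M J) :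
    ∃ a : Fin M ⊕ Fin M → ℤ, x - comb M a ∈ J := by
  obtain ⟨y, hy, z, hz, rfl⟩ := Submodule.mem_sup.mp hx
  obtain ⟨a, ha⟩ := (Submodule.mem_span_range_iff_exists_fun ℤ).mp hy
  exact ⟨a, by rw [comb, ha, add_sub_cancel_left]; exact hz⟩

lemma mem_window_of_eq_mod {J : Ideal P2} {x y : P2} (hy : y ∈ window M J) (h : x - y ∈ J) :
    x ∈ window M J := by
  have := add_mem (Submodule.mem_sup_right (show x - y ∈ J.restrictScalars ℤ from h) :
    x - y ∈ window M J) hy
  rwa [sub_add_cancel] at this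

lemma pow_zero_mem {J : Ideal P2} {j : ℕ} (hj : j < M) : (X 0 : P2) ^ j ∈ window M J :=
  Submodule.mem_sup_left (Submodule.subset_span ⟨Sum.inl ⟨j, hj⟩, rfl⟩)

lemma pow_one_mem {J : Ideal P2} {j : ℕ} (hj : j ≤ M) (hj0 : 1 ≤ M) :
    (X 1 : P2) ^ j ∈ window M J := by
  rcases j with _ | j
  · rw [pow_zero, ← pow_zero (X 0)]; exact pow_zero_mem hj0
  · exact Submodule.mem_sup_left (Submodule.subset_span ⟨Sum.inr ⟨j, hj⟩, rfl⟩)

lemma X_zero_mul_pow_one {J : Ideal P2} (hf : fq q ∈ J) (j : ℕ) :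
    X 0 * X 1 ^ (j + 1) - q • X 1 ^ j ∈ J := by
  have : (X 0 * X 1 ^ (j + 1) - q • X 1 ^ j : P2) = fq q * X 1 ^ j := by
    rw [fq, MvPolynomial.smul_eq_C_mul]; ring
  rw [this]; exact J.mul_mem_right _ hf

lemma X_one_mul_pow_zero {J : Ideal P2} (hf : fq q ∈ J) (j : ℕ) :
    X 1 * X 0 ^ (j + 1) - q • X 0 ^ j ∈ J := by
  have : (X 1 * X 0 ^ (j + 1) - q • X 0 ^ j : P2) = fq q * X 0 ^ j := by
    rw [fq, MvPolynomial.smul_eq_C_mul]; ring
  rw [this]; exact J.mul_mem_right _ hf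

lemma X_mul_mem {J : Ideal P2} (hf : fq q ∈ J) {M N : ℕ} (hM : 1 ≤ M) (hMN : M ≤ N)
    (h0 : (X 0 : P2) ^ M ∈ window N J) (h1 : (X 1 : P2) ^ (M + 1) ∈ window N J) (k : Fin 2) {x : P2}
    (hx : x ∈ window M J) : X k * x ∈ window N J := by
  obtain ⟨y, hy, z, hz, rfl⟩ := Submodule.mem_sup.mp hx
  rw [mul_add]
  refine add_mem ?_ (Submodule.mem_sup_right (J.mul_mem_left _ hz))
  clear hx
  induction hy using Submodule.span_induction with
  | mem b hb =>
    obtain ⟨(i | i), rfl⟩ := hb <;> simp only [bvec, Sum.elim_inl, Sum.elim_inr] <;> fin_cases k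
    · show X 0 * X 0 ^ (i : ℕ) ∈ _
      rw [← pow_succ']
      rcases lt_or_eq_of_le (show (i : ℕ) + 1 ≤ M from i.isLt) with h | h
      · exact pow_zero_mem (h.trans_le hMN)
      · rw [h]; exact h0
    · show X 1 * X 0 ^ (i : ℕ) ∈ _
      rcases hi : (i : ℕ) with _ | j
      · rw [pow_zero, mul_one]; simpa using pow_one_mem (J := J) (j := 1) (hM.trans hMN) (hM.trans hMN)
      · exact mem_window_of_eq_mod (Submodule.smul_mem _ q (pow_zero_mem (by omega)))
          (X_one_mul_pow_zero hf j)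
    · show X 0 * X 1 ^ ((i : ℕ) + 1) ∈ _
      exact mem_window_of_eq_mod (Submodule.smul_mem _ q (pow_one_mem (by omega) (hM.trans hMN)))
        (X_zero_mul_pow_one hf _)
    · show X 1 * X 1 ^ ((i : ℕ) + 1) ∈ _
      rw [← pow_succ']
      rcases lt_or_eq_of_le (show (i : ℕ) + 1 ≤ M from i.isLt) with h | h
      · exact pow_one_mem (by omega) (hM.trans hMN)
      · rw [h]; exact h1
  | zero => simp
  | add a b _ _ ha hb => rw [mul_add]; exact add_mem ha hb
  | smul c a _ ha => rw [mul_smul_comm]; exact Submodule.smul_mem _ c ha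

lemma exists_mem_window (q : ℤ) (x : P2) :
    ∃ M, 1 ≤ M ∧ x ∈ window M (Ideal.span {fq q}) := by
  have hmono : ∀ {M N : ℕ}, M ≤ N → window M (Ideal.span {fq q}) ≤ window N (Ideal.span {fq q}) := by
    intro M N hMN
    refine sup_le_sup (Submodule.span_le.mpr ?_) le_rfl
    rintro _ ⟨(i | i), rfl⟩
    · exact Submodule.subset_span ⟨Sum.inl (Fin.castLE hMN i), rfl⟩
    · exact Submodule.subset_span ⟨Sum.inr (Fin.castLE hMN i), rfl⟩
  induction x using MvPolynomial.induction_on with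
  | C c =>
    refine ⟨1, le_rfl, ?_⟩
    have e : (C c : P2) = c • X 0 ^ 0 := by rw [pow_zero, MvPolynomial.smul_eq_C_mul, mul_one]
    rw [e]
    exact Submodule.smul_mem _ c (pow_zero_mem one_pos)
  | add a b ha hb =>
    obtain ⟨M, hM, ha⟩ := ha
    obtain ⟨N, hN, hb⟩ := hb
    exact ⟨max M N, hM.trans (le_max_left _ _),
      add_mem (hmono (le_max_left _ _) ha) (hmono (le_max_right _ _) hb)⟩
  | mul_X a k ha =>
    obtain ⟨M, hM, ha⟩ := ha
    refine ⟨M + 1, by omega, ?_⟩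
    rw [mul_comm]
    exact X_mul_mem (Ideal.mem_span_singleton_self _) hM (Nat.le_succ M)
      (pow_zero_mem (Nat.lt_succ_self M)) (pow_one_mem le_rfl (by omega)) k ha

lemma window_eq_top {J : Ideal P2} (hM : 1 ≤ M)
    (h : ∀ (k : Fin 2) (x : P2), x ∈ window M J → X k * x ∈ window M J) : window M J = ⊤ := by
  refine eq_top_iff.mpr fun x hx => ?_
  clear hx
  induction x using MvPolynomial.induction_on with
  | C c =>
    have e : (C c : P2) = c • X 0 ^ 0 := by rw [pow_zero, MvPolynomial.smul_eq_C_mul, mul_one]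
    rw [e]
    exact Submodule.smul_mem _ c (pow_zero_mem hM)
  | add a b ha hb => exact add_mem ha hb
  | mul_X a k ha => rw [mul_comm]; exact h k a ha

/-- the evaluation to rational functions -/
noncomputable def phi (q : ℤ) : P2 →ₐ[ℤ] RatFunc ℚ :=
  aeval ![RatFunc.X, (q : RatFunc ℚ) / RatFunc.X]

lemma phi_X0 (q : ℤ) : phi q (X 0) = RatFunc.X := (aeval_X _ 0).trans rfl

lemma phi_X1 (q : ℤ) : phi q (X 1) = (q : RatFunc ℚ) / RatFunc.X := (aeval_X _ 1).trans rfl

lemma aeval_ratFuncX_eq_zero {G : Polynomial ℤ} (h : Polynomial.aeval (RatFunc.X : RatFunc ℚ) G = 0) :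
    G = 0 := by
  have key : ∀ F : Polynomial ℤ, Polynomial.aeval (RatFunc.X : RatFunc ℚ) F =
      algebraMap (Polynomial ℚ) (RatFunc ℚ) (F.map (Int.castRingHom ℚ)) := fun F => by
    induction F using Polynomial.induction_on' with
    | add a b ha hb => simp [ha, hb]
    | monomial n c => simp [← Polynomial.C_mul_X_pow_eq_monomial, RatFunc.algebraMap_X]
  rw [key, map_eq_zero_iff _ (RatFunc.algebraMap_injective ℚ)] at h
  exact (Polynomial.map_eq_zero_iff Int.cast_injective).mp h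

lemma phi_fq (q : ℤ) : phi q (fq q) = 0 := by
  rw [fq, map_sub, map_mul, phi_X0, phi_X1, mul_div_cancel₀ _ (RatFunc.X_ne_zero (K := ℚ))]
  simp

theorem ker_phi (hq : q ≠ 0) : RingHom.ker (phi q) = Ideal.span {fq q} := by
  refine le_antisymm (fun x hx => ?_) (by rw [Ideal.span_le, Set.singleton_subset_iff]; exact phi_fq q)
  obtain ⟨M, hM, hxM⟩ := exists_mem_window q x
  obtain ⟨a, ha⟩ := exists_of_mem_window hxM
  have h0 : phi q (comb M a) = 0 := by
    obtain ⟨c, hc⟩ := Ideal.mem_span_singleton.mp ha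
    have := congrArg (phi q) hc
    rwa [map_sub, RingHom.mem_ker.mp hx, map_mul, phi_fq, zero_mul, zero_sub, neg_eq_zero] at this
  have h1 : Gpoly q M a = 0 := aeval_ratFuncX_eq_zero (by
    rw [← pow_mul_aeval_comb (q := q) (RatFunc.X_ne_zero (K := ℚ)) a]
    exact mul_eq_zero_of_right _ h0)
  have ha0 : comb M a = 0 := by rw [eq_zero_of_Gpoly hq h1]; simp [comb]
  rwa [ha0, sub_zero] at ha

lemma fq_ne_zero : fq q ≠ 0 := by
  intro h
  have := congrArg (MvPolynomial.coeff (Finsupp.single 0 1 + Finsupp.single 1 1)) h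
  simp [fq, MvPolynomial.X, MvPolynomial.monomial_mul, MvPolynomial.coeff_C] at this
  rw [← map_intCast (MvPolynomial.C (R := ℤ) (σ := Fin 2)), MvPolynomial.coeff_C, if_neg (fun h => by
    have := DFunLike.congr_fun h 0; simp at this)] at this
  simp at this

lemma fq_prime (hq : q ≠ 0) : (Ideal.span {fq q}).IsPrime := by
  rw [← ker_phi hq]; exact RingHom.ker_isPrime _

/-- the canonical `h` -/
noncomputable def hcan (D : ℕ) (ε : ℤ) (P : Polynomial ℤ) : P2 :=
  ∑ r ∈ Finset.range (D + 1), P.coeff (D + r) • X 0 ^ r +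
    ε • ∑ r ∈ Finset.range D, P.coeff (D + (r + 1)) • X 1 ^ (r + 1)

theorem pow_mul_hcan_sub (hq : q ≠ 0) {D : ℕ} {ε : ℤ} {P : Polynomial ℤ} (hdeg : P.natDegree = 2 * D)
    (hε : ∀ r ≤ D, P.coeff (D - r) = ε * q ^ r * P.coeff (D + r)) :
    X 0 ^ D * hcan D ε P - Polynomial.aeval (X 0 : P2) P ∈ Ideal.span {fq q} := by
  rw [← ker_phi hq, RingHom.mem_ker, map_sub, map_mul, map_pow, ← Polynomial.aeval_algHom_apply,
    sub_eq_zero]
  have hx : phi q (X 0) = RatFunc.X := phi_X0 q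
  have hy : phi q (X 1) = (q : RatFunc ℚ) / RatFunc.X := phi_X1 q
  rw [hx, Polynomial.aeval_eq_sum_range, hdeg, show 2 * D + 1 = D + (D + 1) by omega,
    Finset.sum_range_add, hcan]
  simp only [map_add, map_sum, map_zsmul, map_pow, hx, hy, mul_add, Finset.mul_sum, Finset.smul_sum]
  refine Eq.trans ?_ (add_comm _ _)
  congr 1
  · refine Finset.sum_congr rfl fun r _ => ?_
    rw [mul_smul_comm, ← pow_add]
  · rw [← Finset.sum_range_reflect (fun x => P.coeff x • (RatFunc.X : RatFunc ℚ) ^ x) D]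
    refine Finset.sum_congr rfl fun r hr => ?_
    have hrD : r < D := Finset.mem_range.mp hr
    rw [show D - 1 - r = D - (r + 1) by omega, hε (r + 1) (by omega)]
    simp only [zsmul_eq_mul, div_pow, Int.cast_mul, Int.cast_pow]
    have : (RatFunc.X : RatFunc ℚ) ^ D = RatFunc.X ^ (D - (r + 1)) * RatFunc.X ^ (r + 1) := by
      rw [← pow_add, Nat.sub_add_cancel (by omega)]
    rw [this]
    have hne : (RatFunc.X : RatFunc ℚ) ^ (r + 1) ≠ 0 := pow_ne_zero _ RatFunc.X_ne_zero
    field_simp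

section order

variable {D : ℕ} {P : Polynomial ℤ} {h : P2}

/-- hypotheses -/
structure Datum (q : ℤ) (D : ℕ) (P : Polynomial ℤ) (h : P2) : Prop where
  q_ne : q ≠ 0
  monic : P.Monic
  deg : P.natDegree = 2 * D
  sign : ∃ ε : ℤ, ε * ε = 1 ∧ ∀ r ≤ D, P.coeff (D - r) = ε * q ^ r * P.coeff (D + r)
  hh : X 0 ^ D * h - Polynomial.aeval (X 0 : P2) P ∈ Ideal.span {fq q}

lemma Datum.phi_eq (d : Datum q D P h) :
    RatFunc.X ^ D * phi q h = Polynomial.aeval (RatFunc.X : RatFunc ℚ) P := by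
  have := d.hh
  rw [← ker_phi d.q_ne, RingHom.mem_ker, map_sub, map_mul, map_pow, ← Polynomial.aeval_algHom_apply,
    sub_eq_zero] at this
  rwa [phi_X0] at this

theorem Datum.isWeaklyRegular (d : Datum q D P h) :
    RingTheory.Sequence.IsWeaklyRegular P2 [fq q, h] := by
  refine (RingTheory.Sequence.isWeaklyRegular_cons_iff P2 _ _).mpr
    ⟨(isSMulRegular_iff_right_eq_zero_of_smul).mpr fun x hx => ?_, ?_⟩
  · exact (mul_eq_zero.mp hx).resolve_left fq_ne_zero
  refine (RingTheory.Sequence.isWeaklyRegular_cons_iff _ _ _).mpr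
    ⟨(isSMulRegular_iff_right_eq_zero_of_smul).mpr fun x hx => ?_,
      RingTheory.Sequence.IsWeaklyRegular.nil _ _⟩
  obtain ⟨x, rfl⟩ := Submodule.Quotient.mk_surjective _ x
  rw [← Submodule.Quotient.mk_smul, Submodule.Quotient.mk_eq_zero,
    Submodule.mem_smul_pointwise_iff_exists] at hx
  obtain ⟨b, -, hb⟩ := hx
  have h0 : phi q h * phi q x = 0 := by
    rw [← map_mul, ← smul_eq_mul, ← hb, smul_eq_mul, map_mul, phi_fq, zero_mul]
  have hne : phi q h ≠ 0 := fun h0' => by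
    have := d.phi_eq
    rw [h0', mul_zero] at this
    exact d.monic.ne_zero (aeval_ratFuncX_eq_zero this.symm)
  have hx' : x ∈ Ideal.span {fq q} := by
    rw [← ker_phi d.q_ne]; exact (mul_eq_zero.mp h0).resolve_left hne
  obtain ⟨c, hc⟩ := Ideal.mem_span_singleton.mp hx'
  rw [Submodule.Quotient.mk_eq_zero, hc]
  exact Submodule.smul_mem_pointwise_smul c (fq q) ⊤ trivial

lemma Datum.exists_hcan (d : Datum q D P h) :
    ∃ ε : ℤ, ε * ε = 1 ∧ h - hcan D ε P ∈ Ideal.span {fq q} := by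
  obtain ⟨ε, hεε, hε⟩ := d.sign
  refine ⟨ε, hεε, ?_⟩
  have h2 := pow_mul_hcan_sub d.q_ne d.deg hε
  rw [← ker_phi d.q_ne] at h2 ⊢
  have h1 := d.hh
  rw [← ker_phi d.q_ne] at h1
  rw [RingHom.mem_ker] at h1 h2 ⊢
  rw [map_sub, map_mul, sub_eq_zero] at h1 h2
  rw [map_sub, sub_eq_zero]
  refine mul_left_cancel₀ ?_ (h1.trans h2.symm)
  rw [map_pow, phi_X0]
  exact pow_ne_zero _ RatFunc.X_ne_zero

lemma Datum.coeff_top (d : Datum q D P h) : P.coeff (D + D) = 1 := by
  rw [← two_mul, ← d.deg]; exact d.monic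

theorem Datum.window_top (d : Datum q D P h) (hD : 1 ≤ D) :
    window D (Ideal.span {fq q, h}) = ⊤ := by
  obtain ⟨ε, hεε, hd⟩ := d.exists_hcan
  set J : Ideal P2 := Ideal.span {fq q, h}
  have hf : fq q ∈ J := Ideal.subset_span (Set.mem_insert _ _)
  have hJ : hcan D ε P ∈ J := by
    have h1 : h - hcan D ε P ∈ J :=
      Ideal.span_mono (Set.singleton_subset_iff.mpr (Set.mem_insert _ _)) hd
    have h2 : h ∈ J := Ideal.subset_span (Set.mem_insert_of_mem _ rfl)
    simpa using J.sub_mem h2 h1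
  refine window_eq_top hD fun k x hx => X_mul_mem hf hD le_rfl ?_ ?_ k hx
  · have hrest : ∑ r ∈ Finset.range D, P.coeff (D + r) • (X 0 : P2) ^ r +
        ε • ∑ r ∈ Finset.range D, P.coeff (D + (r + 1)) • (X 1 : P2) ^ (r + 1) ∈ window D J :=
      add_mem (sum_mem fun r hr => Submodule.smul_mem _ _ (pow_zero_mem (Finset.mem_range.mp hr)))
        (Submodule.smul_mem _ _ (sum_mem fun r hr =>
          Submodule.smul_mem _ _ (pow_one_mem (Finset.mem_range.mp hr) hD)))
    refine mem_window_of_eq_mod (neg_mem hrest) ?_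
    have e : (X 0 : P2) ^ D - -(∑ r ∈ Finset.range D, P.coeff (D + r) • (X 0 : P2) ^ r +
        ε • ∑ r ∈ Finset.range D, P.coeff (D + (r + 1)) • (X 1 : P2) ^ (r + 1)) = hcan D ε P := by
      rw [hcan, Finset.sum_range_succ, d.coeff_top, one_smul]; abel
    rw [e]; exact hJ
  · obtain ⟨D', rfl⟩ := Nat.exists_eq_succ_of_ne_zero (show D ≠ 0 by omega)
    have e1 : ∀ r, r + 1 ≤ D' + 1 →
        X 1 * (P.coeff (D'.succ + (r + 1)) • (X 0 : P2) ^ (r + 1)) ∈ window D'.succ J := fun r hr => by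
      rw [mul_smul_comm]
      exact Submodule.smul_mem _ _ (mem_window_of_eq_mod
        (Submodule.smul_mem _ q (pow_zero_mem (by omega))) (X_one_mul_pow_zero hf r))
    have e2 : ∀ r, r < D' → X 1 * (P.coeff (D'.succ + (r + 1)) • (X 1 : P2) ^ (r + 1)) ∈
        window D'.succ J := fun r hr => by
      rw [mul_smul_comm, ← pow_succ']
      exact Submodule.smul_mem _ _ (pow_one_mem (by omega) hD)
    have hJ' : X 1 * hcan D'.succ ε P ∈ window D'.succ J :=
      Submodule.mem_sup_right (J.mul_mem_left _ hJ)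
    have key : ε • (X 1 : P2) ^ (D'.succ + 1) ∈ window D'.succ J := by
      have e : X 1 * hcan D'.succ ε P =
          (∑ r ∈ Finset.range D'.succ, X 1 * (P.coeff (D'.succ + (r + 1)) • (X 0 : P2) ^ (r + 1)) +
            P.coeff (D'.succ + 0) • (X 1 : P2) ^ 1 +
            ε • ∑ r ∈ Finset.range D', X 1 * (P.coeff (D'.succ + (r + 1)) • (X 1 : P2) ^ (r + 1))) +
          ε • (X 1 : P2) ^ (D'.succ + 1) := by
        rw [hcan, mul_add, mul_smul_comm, Finset.mul_sum, Finset.mul_sum,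
          Finset.sum_range_succ' (fun r => X 1 * (P.coeff (D'.succ + r) • (X 0 : P2) ^ r)),
          Finset.sum_range_succ (fun r => X 1 * (P.coeff (D'.succ + (r + 1)) • (X 1 : P2) ^ (r + 1))),
          smul_add, d.coeff_top]
        rw [one_smul, pow_zero, pow_one, mul_smul_comm, mul_one, ← pow_succ']
        abel
      rw [e] at hJ'
      refine (Submodule.add_mem_iff_right _ ?_).mp hJ'
      refine add_mem (add_mem (sum_mem fun r hr => e1 r (Finset.mem_range.mp hr))
        (Submodule.smul_mem _ _ (pow_one_mem hD hD))) (Submodule.smul_mem _ _ ?_)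
      exact sum_mem fun r hr => e2 r (Finset.mem_range.mp hr)
    have := Submodule.smul_mem _ ε key
    rwa [smul_smul, hεε, one_smul] at this

theorem Datum.one_mem_of_zero (d : Datum q 0 P h) : Ideal.span {fq q, h} = ⊤ := by
  obtain ⟨ε, -, hd⟩ := d.exists_hcan
  have he : hcan 0 ε P = 1 := by
    have : P.coeff 0 = 1 := by simpa using d.coeff_top
    simp [hcan, this]
  rw [Ideal.eq_top_iff_one, ← he]
  have h1 : h - hcan 0 ε P ∈ Ideal.span {fq q, h} :=
    Ideal.span_mono (Set.singleton_subset_iff.mpr (Set.mem_insert _ _)) hd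
  have h2 : h ∈ Ideal.span {fq q, h} := Ideal.subset_span (Set.mem_insert_of_mem _ rfl)
  simpa using Ideal.sub_mem _ h2 h1

/-- the family of roots -/
structure Roots (q : ℤ) (P : Polynomial ℤ) {ι : Type*} [Fintype ι] (K : ι → Type*)
    [∀ i, Field (K i)] [∀ i, CharZero (K i)] (π : ∀ i, K i) : Prop where
  ne_zero : ∀ i, π i ≠ 0
  dvd : ∀ G : Polynomial ℤ, (∀ i, Polynomial.aeval (π i) G = 0) ↔ P ∣ G

variable {ι : Type*} [Fintype ι] {K : ι → Type*} [∀ i, Field (K i)] [∀ i, CharZero (K i)]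
  {π : ∀ i, K i}

/-- evaluation to the product of fields -/
noncomputable def toProd (q : ℤ) (π : ∀ i, K i) : P2 →ₐ[ℤ] ((i : ι) → K i) :=
  aeval ![fun i => π i, fun i => (q : K i) / π i]

lemma toProd_apply (x : P2) (i : ι) :
    toProd q π x i = aeval ![π i, (q : K i) / π i] x := by
  have := DFunLike.congr_fun (MvPolynomial.comp_aeval (φ := Pi.evalAlgHom ℤ K i)
    (f := ![fun i => π i, fun i => (q : K i) / π i])) x
  rw [toProd]
  refine this.trans (congrArg (fun f => aeval f x) (funext fun k => ?_))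
  fin_cases k <;> rfl

lemma toProd_fq (hr : Roots q P K π) : toProd q π (fq q) = 0 := by
  funext i
  rw [toProd_apply]
  simp [fq, mul_div_cancel₀ _ (hr.ne_zero i)]

lemma toProd_h (d : Datum q D P h) (hr : Roots q P K π) : toProd q π h = 0 := by
  funext i
  rw [toProd_apply, Pi.zero_apply]
  obtain ⟨c, hc⟩ := Ideal.mem_span_singleton.mp d.hh
  have := congrArg (aeval ![π i, (q : K i) / π i]) hc
  rw [map_sub, map_mul, map_mul, ← Polynomial.aeval_algHom_apply] at this
  simp [fq, mul_div_cancel₀ _ (hr.ne_zero i), (hr.dvd P).mpr dvd_rfl i, hr.ne_zero i] at this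
  exact this

lemma comb_eq_zero (d : Datum q D P h) (hr : Roots q P K π) {a : Fin D ⊕ Fin D → ℤ}
    (ha : toProd q π (comb D a) = 0) : a = 0 := by
  refine eq_zero_of_Gpoly d.q_ne ?_
  by_contra hG
  have hdvd : P ∣ Gpoly q D a := (hr.dvd _).mp fun i => by
    rw [← pow_mul_aeval_comb (hr.ne_zero i), ← toProd_apply, ha]; simp
  have := Polynomial.natDegree_le_of_dvd hdvd hG
  have h2 := (Polynomial.natDegree_lt_iff_degree_lt hG).mpr (degree_Gpoly_lt (q := q) a)
  rw [d.deg] at this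
  omega

theorem ker_toProd (d : Datum q D P h) (hr : Roots q P K π) :
    RingHom.ker (toProd q π) = Ideal.span {fq q, h} := by
  have hle : Ideal.span {fq q, h} ≤ RingHom.ker (toProd q π) := by
    rw [Ideal.span_le]
    rintro x (rfl | rfl)
    · exact toProd_fq hr
    · exact toProd_h d hr
  refine le_antisymm (fun x hx => ?_) hle
  rcases Nat.eq_zero_or_pos D with rfl | hD
  · rw [d.one_mem_of_zero]; exact Submodule.mem_top
  obtain ⟨a, ha⟩ := exists_of_mem_window (M := D) (x := x)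
    (J := Ideal.span {fq q, h}) (by rw [d.window_top hD]; trivial)
  have h0 : toProd q π (comb D a) = 0 := by
    have := RingHom.mem_ker.mp (hle ha)
    rw [map_sub, RingHom.mem_ker.mp hx, zero_sub, neg_eq_zero] at this
    exact this
  have hz : comb D a = 0 := by rw [comb_eq_zero d hr h0]; simp [comb]
  rwa [hz, sub_zero] at ha

theorem exists_basis_range (d : Datum q D P h) (hr : Roots q P K π) :
    Nonempty (Module.Basis (Fin D ⊕ Fin D) ℤ (toProd q π).range) := by
  let L : (Fin D ⊕ Fin D → ℤ) →ₗ[ℤ] (toProd q π).range :=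
    (toProd q π).rangeRestrict.toLinearMap ∘ₗ Fintype.linearCombination ℤ (bvec D)
  have hL : ∀ a, L a = (toProd q π).rangeRestrict (comb D a) := fun a => by
    simp [L, comb, Fintype.linearCombination_apply]
  refine ⟨Module.Basis.ofEquivFun (LinearEquiv.ofBijective L ⟨?_, ?_⟩).symm⟩
  · refine (injective_iff_map_eq_zero L).mpr fun a ha => comb_eq_zero d hr ?_
    rw [hL] at ha
    exact congrArg Subtype.val ha
  · intro y
    obtain ⟨x, rfl⟩ := (toProd q π).rangeRestrict_surjective y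
    rcases Nat.eq_zero_or_pos D with rfl | hD
    · refine ⟨0, ?_⟩
      have hx : toProd q π x = 0 := by
        rw [← RingHom.mem_ker, ker_toProd d hr, d.one_mem_of_zero]; exact Submodule.mem_top
      rw [map_zero]
      exact Subtype.ext hx.symm
    obtain ⟨a, ha⟩ := exists_of_mem_window (M := D) (x := x)
      (J := Ideal.span {fq q, h}) (by rw [d.window_top hD]; trivial)
    refine ⟨a, ?_⟩
    rw [← ker_toProd d hr, RingHom.mem_ker, map_sub, sub_eq_zero] at ha
    rw [hL]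
    exact Subtype.ext ha.symm

end order

section family

universe u

variable {p e : ℕ} {ι : Type} [Fintype ι] {K : ι → Type u} [∀ i, Field (K i)] [∀ i, CharZero (K i)]
  {π : ∀ i, K i}

theorem roots_family (hint : ∀ i, IsIntegral ℤ (π i)) (hq : ((p : ℤ) ^ e) ≠ 0)
    (hweil : ∀ i, ∀ z ∈ (minpoly ℤ (π i)).aroots ℂ, ‖z‖ = Real.sqrt ((p : ℝ) ^ e))
    (hinj : ∀ i j, minpoly ℤ (π i) = minpoly ℤ (π j) → i = j) :
    Roots ((p : ℤ) ^ e) (∏ i, minpoly ℤ (π i)) K π := by
  refine ⟨fun i h0 => ?_, fun G => ⟨fun hG => ?_, fun hG i => ?_⟩⟩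
  · have hw := isWeilPoly_minpoly (hint i) (hweil i)
    have hq' : p ^ e ≠ 0 := fun h => hq (by exact_mod_cast h)
    have h2 := hw.coeff_zero_sq hq'
    have hc : (minpoly ℤ (π i)).coeff 0 = 0 := by
      have := minpoly.aeval ℤ (π i)
      rw [h0] at this ⊢
      rwa [Polynomial.aeval_def, Polynomial.eval₂_at_zero, eq_intCast, Int.cast_eq_zero] at this
    rw [hc] at h2
    exact pow_ne_zero _ (Nat.cast_ne_zero.mpr hq') (h2.symm.trans (by norm_num))
  · have hm : ∀ i, (minpoly ℤ (π i)).map (algebraMap ℤ ℚ) = minpoly ℚ (π i) := fun i =>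
      (minpoly.isIntegrallyClosed_eq_field_fractions' ℚ (hint i)).symm
    have hinjQ : Function.Injective (algebraMap ℤ ℚ) := (algebraMap ℤ ℚ).injective_int
    rw [← Polynomial.map_dvd_map (algebraMap ℤ ℚ) hinjQ
      (Polynomial.monic_prod_of_monic _ _ fun i _ => minpoly.monic (hint i)), Polynomial.map_prod]
    refine Fintype.prod_dvd_of_coprime (fun i j hij => ?_) fun i => ?_
    · show IsCoprime ((minpoly ℤ (π i)).map (algebraMap ℤ ℚ)) ((minpoly ℤ (π j)).map (algebraMap ℤ ℚ))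
      rw [hm, hm]
      have hi : IsIntegral ℚ (π i) := (hint i).tower_top
      have hj : IsIntegral ℚ (π j) := (hint j).tower_top
      refine (minpoly.irreducible hi).coprime_iff_not_dvd.mpr fun hd => hij (hinj i j ?_)
      have he := Polynomial.eq_of_monic_of_associated (minpoly.monic hi) (minpoly.monic hj)
        ((minpoly.irreducible hi).associated_of_dvd (minpoly.irreducible hj) hd)
      exact Polynomial.map_injective _ hinjQ (by rw [hm, hm, he])
    · exact Polynomial.map_dvd _ (minpoly.isIntegrallyClosed_dvd (hint i) (hG i))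
  · exact Polynomial.aeval_eq_zero_of_dvd_aeval_eq_zero
      ((Finset.dvd_prod_of_mem _ (Finset.mem_univ i)).trans hG) (minpoly.aeval ℤ (π i))

end family

end Groth.Agent.WeilNum29

namespace Groth.Agent.WeilNum29

section family2

universe u

variable {p e : ℕ} {ι : Type} [Fintype ι] {K : ι → Type u} [∀ i, Field (K i)] [∀ i, CharZero (K i)]
  {π : ∀ i, K i}

theorem datum_family (hp : p ≠ 0) (hint : ∀ i, IsIntegral ℤ (π i))
    (hweil : ∀ i, ∀ z ∈ (minpoly ℤ (π i)).aroots ℂ, ‖z‖ = Real.sqrt ((p : ℝ) ^ e))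
    {D : ℕ} (hD : ∑ i, (minpoly ℤ (π i)).natDegree = 2 * D) :
    ∃ h, Datum ((p : ℤ) ^ e) D (∏ i, minpoly ℤ (π i)) h ∧
      (∀ h', X 0 ^ D * h' - Polynomial.aeval (X 0 : P2) (∏ i, minpoly ℤ (π i)) ∈
        Ideal.span {fq ((p : ℤ) ^ e)} → Datum ((p : ℤ) ^ e) D (∏ i, minpoly ℤ (π i)) h') := by
  have hw := isWeilPoly_prod (q := p ^ e) Finset.univ (fun i => minpoly ℤ (π i))
    fun i _ => isWeilPoly_minpoly (hint i) (hweil i)
  have hdeg : (∏ i, minpoly ℤ (π i)).natDegree = 2 * D := by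
    rw [Polynomial.natDegree_prod_of_monic _ _ fun i _ => minpoly.monic (hint i), hD]
  have hq : ((p : ℤ) ^ e) ≠ 0 := pow_ne_zero _ (Nat.cast_ne_zero.mpr hp)
  obtain ⟨ε, hεε, -, hε⟩ := hw.exists_sign (pow_ne_zero _ hp) hdeg
  have hε' : ∀ r ≤ D, (∏ i, minpoly ℤ (π i)).coeff (D - r) =
      ε * ((p : ℤ) ^ e) ^ r * (∏ i, minpoly ℤ (π i)).coeff (D + r) := fun r hr => by
    rw [hε r hr]; push_cast; rfl
  exact ⟨hcan D ε _, ⟨hq, hw.1, hdeg, ⟨ε, hεε, hε'⟩, pow_mul_hcan_sub hq hdeg hε'⟩,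
    fun h' hh' => ⟨hq, hw.1, hdeg, ⟨ε, hεε, hε'⟩, hh'⟩⟩

theorem toProd_eq (f : P2 →ₐ[ℤ] ((i : ι) → K i)) (h0 : f (X 0) = fun i => π i)
    (h1 : f (X 1) = fun i => ((p : K i) ^ e) / π i) : f = toProd ((p : ℤ) ^ e) π := by
  refine MvPolynomial.algHom_ext (Fin.forall_fin_two.mpr ⟨?_, ?_⟩)
  · rw [h0, toProd, aeval_X]
    rfl
  · rw [h1, toProd, aeval_X]
    funext i
    simp

end family2

end Groth.Agent.WeilNum29
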