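import Groth.Agent.Lib.WeilNum29.Refl

/-!
Surjectivity of `Pic` along a surjection whose kernel is annihilated by an ideal with finite image.
-/

namespace Groth.Agent.WeilNum29

universe u

open TensorProduct

/-- an ideal with unit trace is invertible -/
theorem invertible_of_trace {A : Type u} [CommRing A] (I : Ideal A)
    (h : (1 : A) ∈ Ideal.span (Set.range fun p : (I →ₗ[A] A) × I => p.1 p.2)) :
    Module.Invertible A I := by
  obtain ⟨c, hc⟩ := Finsupp.mem_span_range_iff_exists_finsupp.mp h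
  have hcomm : ∀ (ψ : I →ₗ[A] A) (y z : I), (y : A) * ψ z = (z : A) * ψ y := fun ψ y z => by
    rw [← smul_eq_mul, ← map_smul, ← smul_eq_mul, ← map_smul]
    congr 1
    exact Subtype.ext (mul_comm _ _)
  refine ⟨⟨?_, ?_⟩⟩
  · let inv : A →ₗ[A] Module.Dual A I ⊗[A] I :=
      LinearMap.toSpanSingleton A _ (c.sum fun p a => a • (p.1 ⊗ₜ[A] p.2))
    refine Function.LeftInverse.injective (g := inv) fun z => ?_
    induction z using TensorProduct.induction_on with
    | zero => simp
    | tmul ψ y =>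
      rw [contractLeft_apply, LinearMap.toSpanSingleton_apply, Finsupp.smul_sum]
      have hy : y = c.sum fun p a => (a * p.1 y) • p.2 := by
        refine Subtype.ext ?_
        simp only [Finsupp.sum, AddSubmonoidClass.coe_finset_sum, Submodule.coe_smul, smul_eq_mul]
        conv_lhs => rw [← one_mul (y : A), ← hc]
        rw [Finsupp.sum, Finset.sum_mul]
        refine Finset.sum_congr rfl fun p _ => ?_
        rw [smul_eq_mul, mul_assoc, mul_comm (p.1 p.2), mul_assoc, hcomm p.1 y p.2]
        ring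
      conv_rhs => rw [hy, Finsupp.sum, TensorProduct.tmul_sum]
      rw [Finsupp.sum]
      refine Finset.sum_congr rfl fun p _ => ?_
      rw [← TensorProduct.smul_tmul, TensorProduct.smul_tmul', TensorProduct.smul_tmul']
      congr 1
      refine LinearMap.ext fun z => ?_
      simp only [LinearMap.smul_apply, smul_eq_mul]
      have e : ψ y * p.1 z = p.1 y * ψ z := by
        rw [← smul_eq_mul, ← map_smul]
        have e1 : ψ y • z = ψ z • y := Subtype.ext (by
          simp only [Submodule.coe_smul, smul_eq_mul]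
          rw [mul_comm, hcomm ψ z y, mul_comm])
        rw [e1, map_smul, smul_eq_mul, mul_comm]
      rw [mul_left_comm (ψ y), e]
      ring
    | add a b ha hb => simp only [map_add, ha, hb]
  · intro a
    refine ⟨a • c.sum fun p b => b • (p.1 ⊗ₜ[A] p.2), ?_⟩
    simp only [map_smul, Finsupp.sum, map_sum, contractLeft_apply, smul_eq_mul] at hc ⊢
    rw [hc, mul_one]

variable {A B : Type u} [CommRing A] [CommRing B]

theorem exists_dual_off (L : Type u) [AddCommGroup L] [Module B L] [Module.Invertible B L]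
    (M : Finset (Ideal B)) (hM : ∀ Q ∈ M, Q.IsMaximal) :
    ∃ φ : Module.Dual B L, ∀ Q ∈ M, ∃ l, φ l ∉ Q := by
  classical
  have h1 : ∀ Q ∈ M, ∃ (φ : Module.Dual B L) (l : L), φ l ∉ Q := fun Q hQ => by
    by_contra hcon
    push Not at hcon
    obtain ⟨z, hz⟩ := (Module.Invertible.bijective (R := B) (M := L)).2 1
    have : ∀ z, contractLeft B L z ∈ Q := fun z => by
      induction z using TensorProduct.induction_on with
      | zero => simp
      | tmul ψ y => simpa using hcon ψ y
      | add a b ha hb => rw [map_add]; exact Q.add_mem ha hb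
    exact (hM Q hQ).ne_top (Q.eq_top_iff_one.mpr (hz ▸ this z))
  choose φ l hl using h1
  have h2 : ∀ Q : {Q // Q ∈ M}, ∃ e : B, e - 1 ∈ Q.1 ∧ ∀ Q' : {Q // Q ∈ M}, Q' ≠ Q → e ∈ Q'.1 := by
    intro Q
    obtain ⟨e, he, r, hr, her⟩ := Submodule.mem_sup.mp
      (show (1 : B) ∈ (⨅ Q' ∈ M.erase Q.1, Q') ⊔ Q.1 by
        rw [sup_comm, Ideal.sup_iInf_eq_top fun Q' hQ' => ?_]
        · exact Submodule.mem_top
        · refine (hM _ Q.2).coprime_of_ne (hM _ (Finset.mem_of_mem_erase hQ')) ?_
          exact fun h => (Finset.ne_of_mem_erase hQ') h.symm)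
    refine ⟨e, ?_, fun Q' hne => ?_⟩
    · rw [show e - 1 = -r by rw [← her]; ring]; exact Q.1.neg_mem hr
    · exact (Ideal.mem_iInf.mp ((Ideal.mem_iInf.mp he) Q'.1))
        (Finset.mem_erase.mpr ⟨fun h => hne (Subtype.ext h), Q'.2⟩)
  choose e he1 he2 using h2
  refine ⟨∑ Q : {Q // Q ∈ M}, e Q • φ Q.1 Q.2, fun Q hQ => ⟨l Q hQ, fun hmem => hl Q hQ ?_⟩⟩
  rw [LinearMap.sum_apply] at hmem
  have hrest : ∑ Q' ∈ Finset.univ.erase (⟨Q, hQ⟩ : {Q // Q ∈ M}),
      (e Q' • φ Q'.1 Q'.2) (l Q hQ) ∈ Q := sum_mem fun Q' hQ' =>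
    Ideal.mul_mem_right _ _ (he2 Q' ⟨Q, hQ⟩ (Finset.ne_of_mem_erase hQ').symm)
  rw [← Finset.add_sum_erase _ _ (Finset.mem_univ (⟨Q, hQ⟩ : {Q // Q ∈ M}))] at hmem
  have h3 := (Q.add_mem_iff_left hrest).mp hmem
  have h4 : e ⟨Q, hQ⟩ * φ Q hQ (l Q hQ) - φ Q hQ (l Q hQ) ∈ Q := by
    rw [← sub_one_mul]; exact Ideal.mul_mem_right _ _ (he1 ⟨Q, hQ⟩)
  simpa using Q.sub_mem h3 h4

theorem pic_surjective_of_annihilated (π : A →+* B) (hπ : Function.Surjective π) [IsNoetherianRing B]
    [IsReduced B] (N' : Ideal A) (hann : ∀ n ∈ N', ∀ x ∈ RingHom.ker π, n * x = 0)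
    (hfin : Finite (B ⧸ N'.map π)) : Function.Surjective (CommRing.Pic.mapRingHom π) := by
  classical
  intro Lc
  obtain ⟨L, _, _, _, rfl⟩ : ∃ (L : Type u) (_ : AddCommGroup L) (_ : Module B L)
      (_ : Module.Invertible B L), CommRing.Pic.mk B L = Lc :=
    ⟨Lc, inferInstance, inferInstance, inferInstance, CommRing.Pic.mk_eq_self⟩
  have hmax : {Q : Ideal B | Q.IsMaximal ∧ N'.map π ≤ Q}.Finite := by
    haveI := hfin
    refine Set.Finite.subset (Set.finite_range fun J : Ideal (B ⧸ N'.map π) =>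
      J.comap (Ideal.Quotient.mk _)) ?_
    rintro Q ⟨-, hle⟩
    exact ⟨Q.map (Ideal.Quotient.mk _), by
      show Ideal.comap _ (Ideal.map _ Q) = Q
      rw [Ideal.comap_map_of_surjective _ Ideal.Quotient.mk_surjective, ← RingHom.ker_eq_comap_bot,
        Ideal.mk_ker, sup_eq_left.mpr hle]⟩
  have hmin := minimalPrimes.finite_of_isNoetherianRing B
  have hab : ∀ P ∈ minimalPrimes B, ∃ Q : Ideal B, Q.IsMaximal ∧ P ≤ Q := fun P hP =>
    Ideal.exists_le_maximal P hP.1.1.ne_top
  choose Qof hQof using hab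
  let M : Finset (Ideal B) :=
    hmax.toFinset ∪ hmin.toFinset.attach.image fun P => Qof P.1 (hmin.mem_toFinset.mp P.2)
  have hM : ∀ Q ∈ M, Q.IsMaximal := fun Q hQ => by
    rcases Finset.mem_union.mp hQ with h | h
    · exact (hmax.mem_toFinset.mp h).1
    · obtain ⟨P, -, rfl⟩ := Finset.mem_image.mp h; exact (hQof _ _).1
  obtain ⟨φ, hφ⟩ := exists_dual_off L M hM
  -- injective
  have hinj : Function.Injective φ := by
    refine (injective_iff_map_eq_zero φ).mpr fun l hl => ?_
    have hu : ∀ u : L, φ u • l = 0 := fun u => by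
      have h := congrArg (fun z => TensorProduct.lid B L (TensorProduct.map φ LinearMap.id z))
        (Module.Invertible.tmul_comm (R := B) (m₁ := u) (m₂ := l))
      simpa [hl] using h
    have hψ : ∀ ψ : Module.Dual B L, ψ l = 0 := fun ψ => by
      refine IsReduced.eq_zero _ ?_
      rw [← mem_nilradical, nilradical, ← Ideal.sInf_minimalPrimes, Submodule.mem_sInf]
      intro P hP
      have hQ : Qof P hP ∈ M := Finset.mem_union_right _ (Finset.mem_image.mpr
        ⟨⟨P, hmin.mem_toFinset.mpr hP⟩, Finset.mem_attach _ _, rfl⟩)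
      obtain ⟨u, hu'⟩ := hφ _ hQ
      have h0 : φ u * ψ l = 0 := by rw [← smul_eq_mul, ← map_smul, hu, map_zero]
      exact (hP.1.1.mem_or_mem (h0 ▸ P.zero_mem : φ u * ψ l ∈ P)).resolve_left
        fun h => hu' ((hQof P hP).2 h)
    exact (Module.forall_dual_apply_eq_zero_iff B l).mp hψ
  let I : Ideal B := LinearMap.range φ
  have htop : I ⊔ N'.map π = ⊤ := by
    by_contra hne
    obtain ⟨Q, hQ, hle⟩ := Ideal.exists_le_maximal _ hne
    obtain ⟨l, hl⟩ := hφ Q (Finset.mem_union_left _
      (hmax.mem_toFinset.mpr ⟨hQ, le_sup_right.trans hle⟩))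
    exact hl (hle (Submodule.mem_sup_left ⟨l, rfl⟩))
  let e : L ≃ₗ[B] I := LinearEquiv.ofInjective φ hinj
  haveI : Module.Invertible B I := Module.Invertible.congr e
  let J : Ideal A := I.comap π
  have hJtop : J ⊔ N' = ⊤ := by
    obtain ⟨b, hb, c, hc, hbc⟩ := Submodule.mem_sup.mp ((Ideal.eq_top_iff_one _).mp htop)
    obtain ⟨n, hn, rfl⟩ := (Ideal.mem_map_iff_of_surjective π hπ).mp hc
    refine (Ideal.eq_top_iff_one _).mpr (Submodule.mem_sup.mpr ⟨1 - n, ?_, n, hn, sub_add_cancel _ _⟩)
    show π (1 - n) ∈ I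
    rw [map_sub, map_one, ← hbc, add_sub_cancel_right]
    exact hb
  obtain ⟨x, hx, n, hn, hxn⟩ := Submodule.mem_sup.mp ((Ideal.eq_top_iff_one _).mp hJtop)
  -- functionals landing in `n`
  have hlift : ∀ (ψ : I →ₗ[B] B), ∃ g : J →ₗ[A] A, ∀ y : J, ∀ a, π a = ψ ⟨π y, y.2⟩ → g y = n * a := by
    intro ψ
    have huniq : ∀ a a', π a = π a' → n * a = n * a' := fun a a' h => by
      rw [← sub_eq_zero, ← mul_sub]; exact hann n hn _ (by rw [RingHom.mem_ker, map_sub, h, sub_self])
    refine ⟨{ toFun := fun y => n * (hπ (ψ ⟨π y, y.2⟩)).choose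
              map_add' := fun y z => ?_
              map_smul' := fun r y => ?_ }, fun y a ha => huniq _ _ ((hπ _).choose_spec.trans ha.symm)⟩
    · rw [← mul_add]
      refine huniq _ _ ?_
      rw [(hπ _).choose_spec, map_add, (hπ _).choose_spec, (hπ _).choose_spec, ← map_add]
      congr 1
      exact Subtype.ext (map_add π _ _)
    · rw [RingHom.id_apply, smul_eq_mul, mul_left_comm]
      refine huniq _ _ ?_
      rw [(hπ _).choose_spec, map_mul, (hπ _).choose_spec, ← smul_eq_mul, ← map_smul]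
      congr 1
      exact Subtype.ext (map_mul π _ _)
  have htr : (1 : A) ∈ Ideal.span (Set.range fun p : (J →ₗ[A] A) × J => p.1 p.2) := by
    rw [← hxn]
    refine add_mem (Ideal.subset_span ⟨(J.subtype, ⟨x, hx⟩), rfl⟩) ?_
    obtain ⟨z, hz⟩ := (Module.Invertible.bijective (R := B) (M := I)).2 1
    have key : ∀ z, ∃ a, π a = contractLeft B I z ∧
        n * a ∈ Ideal.span (Set.range fun p : (J →ₗ[A] A) × J => p.1 p.2) := fun z => by
      induction z using TensorProduct.induction_on with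
      | zero => exact ⟨0, by simp, by simp⟩
      | tmul ψ y =>
        obtain ⟨g, hg⟩ := hlift ψ
        obtain ⟨y', hy'⟩ := hπ (y : B)
        obtain ⟨a, ha⟩ := hπ (ψ y)
        refine ⟨a, by rw [ha, contractLeft_apply], ?_⟩
        have hy'' : y' ∈ J := by show π y' ∈ I; rw [hy']; exact y.2
        rw [← hg ⟨y', hy''⟩ a (by rw [ha]; congr 1; exact Subtype.ext hy'.symm)]
        exact Ideal.subset_span ⟨(g, ⟨y', hy''⟩), rfl⟩
      | add a b ha hb =>
        obtain ⟨a', ha', ha''⟩ := ha
        obtain ⟨b', hb', hb''⟩ := hb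
        exact ⟨a' + b', by rw [map_add, map_add, ha', hb'], by rw [mul_add]; exact add_mem ha'' hb''⟩
    obtain ⟨a, ha, hmem⟩ := key z
    rw [hz] at ha
    have : n * a = n := by
      have := hann n hn (a - 1) (by rw [RingHom.mem_ker, map_sub, ha, map_one, sub_self])
      rwa [mul_sub, mul_one, sub_eq_zero] at this
    rwa [this] at hmem
  haveI : Module.Invertible A J := invertible_of_trace J htr
  refine ⟨CommRing.Pic.mk A J, ?_⟩
  letI : Algebra A B := π.toAlgebra
  show CommRing.Pic.mapAlgebra A B (CommRing.Pic.mk A J) = _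
  let res : J →ₗ[A] I :=
    { toFun := fun y => ⟨π y, y.2⟩
      map_add' := fun y z => Subtype.ext (map_add π _ _)
      map_smul' := fun r y => Subtype.ext (by
        simp [Algebra.smul_def, RingHom.algebraMap_toAlgebra]) }
  let f : B ⊗[A] J →ₗ[B] I := LinearMap.liftBaseChange B res
  have hf : Function.Surjective f := fun y => by
    obtain ⟨y', hy'⟩ := hπ (y : B)
    have hy'' : y' ∈ J := by show π y' ∈ I; rw [hy']; exact y.2
    exact ⟨1 ⊗ₜ ⟨y', hy''⟩, Subtype.ext (by simp [f, res, hy'])⟩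
  let E : B ⊗[A] J ≃ₗ[B] L :=
    (LinearEquiv.ofBijective f (Module.Invertible.bijective_of_surjective hf)).trans e.symm
  rw [CommRing.Pic.mapAlgebra_apply, CommRing.Pic.mk_eq_mk_iff]
  exact ⟨(TensorProduct.AlgebraTensorModule.congr (LinearEquiv.refl B B)
    (CommRing.Pic.mk.linearEquiv A J)).trans E⟩

end Groth.Agent.WeilNum29

namespace Groth.Agent.WeilNum29

open MvPolynomial

universe u

theorem pic_surjective_of_family {J J' : Type} [Fintype J] (emb : J' → J) {K : J → Type u}
    [∀ j, Field (K j)] [∀ j, CharZero (K j)]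
    (F : MvPolynomial (Fin 2) ℤ →ₐ[ℤ] ((j : J) → K j))
    (F' : MvPolynomial (Fin 2) ℤ →ₐ[ℤ] ((j' : J') → K (emb j')))
    (hFF' : ∀ x j', F' x j' = F x (emb j'))
    (hint : ∀ k j, IsIntegral ℤ (F (X k) j))
    (G : Polynomial ℤ) (hG1 : ∀ j, j ∉ Set.range emb → Polynomial.aeval (F (X 0) j) G = 0)
    (hG2 : ∀ j', Polynomial.aeval (F (X 0) (emb j')) G ≠ 0)
    (hle : RingHom.ker F ≤ RingHom.ker F') :
    Function.Surjective (CommRing.Pic.mapRingHom (Ideal.Quotient.factor hle)) := by
  classical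
  have hJ' : Finite (Set.range emb) := inferInstance
  let π := Ideal.Quotient.factor hle
  have hπ : Function.Surjective π := Ideal.Quotient.factor_surjective hle
  haveI : IsReduced (MvPolynomial (Fin 2) ℤ ⧸ RingHom.ker F') := by
    have : Function.Injective (RingHom.kerLift F'.toRingHom) := RingHom.kerLift_injective _
    exact isReduced_of_injective (RingHom.kerLift F'.toRingHom) this
  -- finiteness over the integers
  have hintx : ∀ x j, IsIntegral ℤ (F x j) := fun x j => by
    induction x using MvPolynomial.induction_on with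
    | C c =>
      have : F (C c) j = algebraMap ℤ (K j) c := by
        rw [show (C c : MvPolynomial (Fin 2) ℤ) = algebraMap ℤ _ c from rfl, F.commutes]; rfl
      rw [this]; exact isIntegral_algebraMap
    | add a b ha hb => rw [map_add, Pi.add_apply]; exact ha.add hb
    | mul_X a k ha => rw [map_mul, Pi.mul_apply]; exact ha.mul (hint k j)
  let mk' := Ideal.Quotient.mk (RingHom.ker F')
  have hint' : ∀ k, IsIntegral ℤ (mk' (X k)) := by
    intro k
    refine ⟨∏ j, minpoly ℤ (F (X k) j), Polynomial.monic_prod_of_monic _ _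
      fun j _ => minpoly.monic (hint k j), ?_⟩
    rw [← Polynomial.aeval_def]
    have h := Polynomial.aeval_algHom_apply (Ideal.Quotient.mkₐ ℤ (RingHom.ker F')) (X k)
      (∏ j, minpoly ℤ (F (X k) j))
    refine h.trans (Ideal.Quotient.eq_zero_iff_mem.mpr (RingHom.mem_ker.mpr (funext fun j' => ?_)))
    rw [hFF', Pi.zero_apply]
    have h2 : F (Polynomial.aeval (X k) (∏ i, minpoly ℤ (F (X k) i))) (emb j') =
        Polynomial.aeval (F (X k) (emb j')) (∏ i, minpoly ℤ (F (X k) i)) :=
      (Polynomial.aeval_algHom_apply ((Pi.evalAlgHom ℤ K (emb j')).comp F) (X k) _).symm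
    rw [h2, map_prod]
    exact Finset.prod_eq_zero (Finset.mem_univ (emb j')) (minpoly.aeval ℤ _)
  haveI : Algebra.IsIntegral ℤ (MvPolynomial (Fin 2) ℤ ⧸ RingHom.ker F') := ⟨fun x => by
    obtain ⟨x, rfl⟩ := Ideal.Quotient.mk_surjective x
    induction x using MvPolynomial.induction_on with
    | C c => exact isIntegral_algebraMap
    | add a b ha hb => rw [map_add]; exact ha.add hb
    | mul_X a k ha => rw [map_mul]; exact ha.mul (hint' k)⟩
  haveI : Module.Finite ℤ (MvPolynomial (Fin 2) ℤ ⧸ RingHom.ker F') := Algebra.IsIntegral.finite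
  -- the annihilating ideal
  let N' : Ideal (MvPolynomial (Fin 2) ℤ ⧸ RingHom.ker F) :=
    Ideal.span {Ideal.Quotient.mk _ (Polynomial.aeval (X 0) G)}
  have hGj : ∀ j, F (Polynomial.aeval (X 0) G) j = Polynomial.aeval (F (X 0) j) G := fun j =>
    (Polynomial.aeval_algHom_apply ((Pi.evalAlgHom ℤ K j).comp F) (X 0) G).symm
  refine pic_surjective_of_annihilated π hπ N' ?_ ?_
  · intro n hn x hx
    obtain ⟨a, rfl⟩ := Ideal.mem_span_singleton.mp hn
    obtain ⟨a, rfl⟩ := Ideal.Quotient.mk_surjective a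
    obtain ⟨x, rfl⟩ := Ideal.Quotient.mk_surjective x
    rw [RingHom.mem_ker] at hx
    have hx' : F' x = 0 := by
      rw [Ideal.Quotient.factor_mk, Ideal.Quotient.eq_zero_iff_mem, RingHom.mem_ker] at hx
      exact hx
    rw [← map_mul, ← map_mul, Ideal.Quotient.eq_zero_iff_mem, RingHom.mem_ker]
    funext j
    rw [map_mul, map_mul, Pi.mul_apply, Pi.mul_apply, Pi.zero_apply, hGj]
    by_cases hj : j ∈ Set.range emb
    · obtain ⟨j', rfl⟩ := hj
      rw [show F x (emb j') = 0 by rw [← hFF', hx']; rfl, mul_zero]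
    · rw [hG1 j hj, zero_mul, zero_mul]
  · haveI : Fintype (Set.range emb) := Fintype.ofFinite _
    obtain ⟨Q, hQ⟩ : ∃ Q : Polynomial ℤ, ∃ m : ℤ, m ≠ 0 ∧
        ∃ R : Polynomial ℤ, R = Polynomial.X * Q + Polynomial.C m ∧
          ∀ j', Polynomial.aeval (Polynomial.aeval (F (X 0) (emb j')) G) R = 0 := by
      let R : Polynomial ℤ := ∏ r : Set.range emb, minpoly ℤ (Polynomial.aeval (F (X 0) r.1) G)
      refine ⟨R.divX, R.coeff 0, ?_, R, R.X_mul_divX_add.symm, fun j' => ?_⟩
      · rw [Polynomial.coeff_zero_eq_eval_zero, Polynomial.eval_prod, Finset.prod_ne_zero_iff]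
        rintro ⟨j, j', rfl⟩ -
        rw [← Polynomial.coeff_zero_eq_eval_zero]
        intro h0
        have hi : IsIntegral ℤ (Polynomial.aeval (F (X 0) (emb j')) G) := by
          rw [← hGj]; exact hintx _ _
        have he := Polynomial.eq_of_monic_of_associated Polynomial.monic_X (minpoly.monic hi)
          (Polynomial.irreducible_X.associated_of_dvd (minpoly.irreducible hi)
            (Polynomial.X_dvd_iff.mpr h0))
        have hv := minpoly.aeval ℤ (Polynomial.aeval (F (X 0) (emb j')) G)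
        rw [← he, Polynomial.aeval_X] at hv
        exact hG2 j' hv
      · rw [map_prod]
        exact Finset.prod_eq_zero (Finset.mem_univ (⟨emb j', j', rfl⟩ : Set.range emb))
          (minpoly.aeval ℤ _)
    obtain ⟨m, hm, R', hR', hR0⟩ := hQ
    have hmem : ((m : ℤ) : MvPolynomial (Fin 2) ℤ ⧸ RingHom.ker F') ∈ N'.map π := by
      rw [Ideal.map_span, Set.image_singleton, Ideal.mem_span_singleton]
      refine ⟨Ideal.Quotient.mk _ (-Polynomial.aeval (Polynomial.aeval (X 0) G) Q), ?_⟩
      rw [Ideal.Quotient.factor_mk, ← map_mul, ← map_intCast (Ideal.Quotient.mk (RingHom.ker F')),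
        Ideal.Quotient.mk_eq_mk_iff_sub_mem, RingHom.mem_ker]
      funext j'
      rw [hFF', Pi.zero_apply]
      have := hR0 j'
      rw [hR', map_add, map_mul, Polynomial.aeval_X, Polynomial.aeval_C] at this
      simp only [map_sub, map_mul, map_neg, map_intCast, Pi.sub_apply, Pi.mul_apply, Pi.neg_apply,
        Pi.intCast_apply, hGj]
      have h2 : F (Polynomial.aeval (Polynomial.aeval (X 0) G) Q) (emb j') =
          Polynomial.aeval (Polynomial.aeval (F (X 0) (emb j')) G) Q := by
        have h3 := (Polynomial.aeval_algHom_apply ((Pi.evalAlgHom ℤ K (emb j')).comp F)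
          (Polynomial.aeval (X 0) G) Q).symm
        rw [← hGj]; exact h3
      rw [h2, sub_eq_zero]
      simp only [algebraMap_int_eq, eq_intCast] at this
      linear_combination this
    -- a finitely generated group killed by `m`
    let qm := Ideal.Quotient.mk (N'.map π)
    haveI : Module.Finite ℤ ((MvPolynomial (Fin 2) ℤ ⧸ RingHom.ker F') ⧸ N'.map π) :=
      Module.Finite.of_surjective qm.toAddMonoidHom.toIntLinearMap Ideal.Quotient.mk_surjective
    haveI : Module.IsTorsion ℤ ((MvPolynomial (Fin 2) ℤ ⧸ RingHom.ker F') ⧸ N'.map π) := fun {x} => by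
      refine ⟨⟨m, mem_nonZeroDivisors_of_ne_zero hm⟩, ?_⟩
      obtain ⟨x, rfl⟩ := Ideal.Quotient.mk_surjective x
      show m • qm x = 0
      refine (qm.toAddMonoidHom.map_zsmul m x).symm.trans ?_
      refine Ideal.Quotient.eq_zero_iff_mem.mpr ?_
      rw [zsmul_eq_mul]
      exact Ideal.mul_mem_right _ _ hmem
    exact Module.finite_of_fg_torsion _ this

end Groth.Agent.WeilNum29
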