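import Groth.Agent.Lib.WeilNum29.Gor
import Groth.Agent.Lib.WeilNum29.Ordinary
import Groth.Agent.Lib.Depth.More
import Groth.Agent.Lib.Goren15.DepthZero

/-!
The order `ℤ[π, q/π]` with one rational Weil number `s` adjoined: equations, Gorenstein criterion.
-/

open MvPolynomial

namespace Groth.Agent.WeilNum29

universe u

section localAlgebra

/-- In a depth zero Gorenstein local ring the socle is generated by any nonzero element of it. -/
theorem exists_mul_eq_of_socle (L : Type u) [CommRing L] [hL : LocCoh.IsGorensteinLocalRing L] {a b : L}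
    (hb0 : b ≠ 0) (hb : ∀ r ∈ IsLocalRing.maximalIdeal L, r * b = 0)
    (ha : ∀ r ∈ IsLocalRing.maximalIdeal L, r * a = 0) : ∃ c, a = c * b := by
  have hd : LocCoh.depth L L = 0 := by
    refine DepthLib.idealDepth_eq_zero_of_forall_not_isSMulRegular ?_ fun r hr hreg => ?_
    · rw [Ideal.smul_eq_mul, Ideal.mul_top]
      exact (IsLocalRing.maximalIdeal.isMaximal L).ne_top
    · exact hb0 (hreg (show r • b = r • 0 by rw [smul_zero, smul_eq_mul, hb r hr]))
  have hinj := (Goren15.injective_and_artinian_of_gorenstein L hd).1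
  let i : L ⧸ IsLocalRing.maximalIdeal L →ₗ[L] L :=
    Submodule.liftQ _ (LinearMap.mulRight L b) fun r hr => hb r hr
  let j : L ⧸ IsLocalRing.maximalIdeal L →ₗ[L] L :=
    Submodule.liftQ _ (LinearMap.mulRight L a) fun r hr => ha r hr
  have hi : Function.Injective i := by
    refine (injective_iff_map_eq_zero i).mpr fun z hz => ?_
    obtain ⟨r, rfl⟩ := Submodule.Quotient.mk_surjective _ z
    rw [Submodule.Quotient.mk_eq_zero]
    by_contra hr
    exact hb0 ((IsLocalRing.notMem_maximalIdeal.1 hr).mul_right_eq_zero.1 hz)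
  obtain ⟨g, hg⟩ := hinj.out i hi j
  have h1 := hg (Submodule.Quotient.mk 1)
  simp only [i, j, Submodule.liftQ_apply, LinearMap.mulRight_apply, one_mul] at h1
  refine ⟨g 1, ?_⟩
  conv_lhs => rw [← h1, show b = b • (1 : L) by simp, map_smul, smul_eq_mul]
  rw [mul_comm]

/-- Gorenstein is checked locally on the source: comparing two quotients. -/
theorem gorenstein_localization_of_eq_near {R B : Type u} [CommRing R] [CommRing B] (π : R →+* B)
    (hπ : Function.Surjective π) (P : Ideal B) [P.IsPrime] (J : Ideal R)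
    (hJ : LocCoh.IsGorensteinRing (R ⧸ J)) (t : R) (ht : π t ∉ P)
    (h1 : ∀ x ∈ RingHom.ker π, t * x ∈ J) (h2 : ∀ x ∈ J, t * x ∈ RingHom.ker π) :
    LocCoh.IsGorensteinLocalRing (Localization.AtPrime P) := by
  have hJP : J ≤ P.comap π := fun x hx => by
    have : π t * π x = 0 := by rw [← map_mul]; exact RingHom.mem_ker.mp (h2 x hx)
    exact ((Ideal.IsPrime.mem_or_mem ‹_› (this ▸ P.zero_mem : π t * π x ∈ P)).resolve_left ht)
  let P₁ : Ideal (R ⧸ J) := (P.comap π).map (Ideal.Quotient.mk J)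
  haveI hP₁ : P₁.IsPrime := Ideal.map_isPrime_of_surjective Ideal.Quotient.mk_surjective
    (by rwa [Ideal.mk_ker])
  have hcomap : P₁.comap (Ideal.Quotient.mk J) = P.comap π := by
    rw [Ideal.comap_map_of_surjective _ Ideal.Quotient.mk_surjective, ← RingHom.ker_eq_comap_bot,
      Ideal.mk_ker, sup_eq_left.mpr hJP]
  have := hJ.isGorensteinLocalRing_localization P₁
  obtain ⟨e⟩ := Goren15.nonempty_localization_quotient_equiv π hπ P
  obtain ⟨e₁⟩ := Goren15.nonempty_localization_quotient_equiv (Ideal.Quotient.mk J)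
    Ideal.Quotient.mk_surjective P₁
  have key : ∀ (Q : Ideal R) [Q.IsPrime], Q = P.comap π →
      Nonempty ((Localization.AtPrime Q ⧸ J.map (algebraMap R (Localization.AtPrime Q))) ≃+*
        (Localization.AtPrime (P.comap π) ⧸ (RingHom.ker π).map
          (algebraMap R (Localization.AtPrime (P.comap π))))) := by
    rintro Q _ rfl
    refine ⟨Ideal.quotEquivOfEq ?_⟩
    have hu : IsUnit (algebraMap R (Localization.AtPrime (P.comap π)) t) :=
      IsLocalization.map_units (M := (P.comap π).primeCompl) _ ⟨t, ht⟩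
    apply le_antisymm <;> rw [Ideal.map_le_iff_le_comap] <;> intro x hx <;>
      rw [Ideal.mem_comap, ← (Ideal.unit_mul_mem_iff_mem _ hu), ← map_mul]
    · exact Ideal.mem_map_of_mem _ (h2 x hx)
    · exact Ideal.mem_map_of_mem _ (h1 x hx)
  obtain ⟨e₂⟩ := key _ hcomap
  rw [Ideal.mk_ker] at e₁
  exact (Goren15.isGorensteinLocalRing_iff_of_ringEquiv ((e₁.symm.trans e₂).trans e)).1 this

end localAlgebra

section kernel

variable {q : ℤ} {D : ℕ} {P : Polynomial ℤ} {h : P2} {s : ℤ}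

/-- the ideal of the order with the point `s` adjoined -/
noncomputable def ker3 (q : ℤ) (h : P2) (s : ℤ) : Ideal P2 :=
  Ideal.span {fq q, h * (X 0 - C s), h * (X 1 - C s)}

lemma sub_eval_mem (b : P2) (s : ℤ) :
    b - C (eval (fun _ => s) b) ∈ Ideal.span {(X 0 : P2) - C s, X 1 - C s} := by
  induction b using MvPolynomial.induction_on with
  | C c => simp
  | add a c ha hc => rw [map_add, map_add, add_sub_add_comm]; exact add_mem ha hc
  | mul_X a k ha =>
    have : a * X k - C (eval (fun _ => s) (a * X k)) =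
        (a - C (eval (fun _ => s) a)) * X k + C (eval (fun _ => s) a) * (X k - C s) := by
      rw [map_mul, eval_X, map_mul]; ring
    rw [this]
    refine add_mem (Ideal.mul_mem_right _ _ ha) (Ideal.mul_mem_left _ _ (Ideal.subset_span ?_))
    fin_cases k <;> simp

lemma Datum.eval_h (d : Datum q D P h) (hs : s ^ 2 = q) :
    s ^ D * eval (fun _ => s) h = P.eval s := by
  obtain ⟨c, hc⟩ := Ideal.mem_span_singleton.mp d.hh
  have := congrArg (eval (fun _ => s)) hc
  rw [map_sub, map_mul, map_pow, eval_X, map_mul, fq, map_sub, map_mul, eval_X, eval_X, eval_C,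
    ← sq, hs, sub_self, zero_mul, sub_eq_zero] at this
  rw [this]
  have := Polynomial.aeval_algHom_apply (MvPolynomial.aeval (fun _ : Fin 2 => s)) (X 0 : P2) P
  rw [aeval_X, Polynomial.coe_aeval_eq_eval] at this
  rw [this]
  rfl

theorem ker_pair (d : Datum q D P h) (hs : s ^ 2 = q) (hP : P.eval s ≠ 0) {S : Type u} [CommRing S]
    (F₁ : P2 →ₐ[ℤ] S) (hF₁ : RingHom.ker F₁ = Ideal.span {fq q, h}) (F : P2 →ₐ[ℤ] S × ℚ)
    (hF : ∀ x, F x = (F₁ x, ((eval (fun _ => s) x : ℤ) : ℚ))) :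
    RingHom.ker F = ker3 q h s := by
  refine le_antisymm (fun x hx => ?_) ?_
  · rw [RingHom.mem_ker, hF, Prod.ext_iff] at hx
    obtain ⟨hx1, hx2⟩ := hx
    simp only [Prod.fst_zero, Prod.snd_zero, Int.cast_eq_zero] at hx1 hx2
    rw [← RingHom.mem_ker, hF₁, Ideal.mem_span_pair] at hx1
    obtain ⟨a, b, rfl⟩ := hx1
    rw [map_add, map_mul, map_mul, fq, map_sub, map_mul, eval_X, eval_X, eval_C, ← sq, hs, sub_self,
      mul_zero, zero_add, mul_eq_zero] at hx2
    have hh : eval (fun _ => s) h ≠ 0 := fun h0 => hP (by rw [← d.eval_h hs, h0, mul_zero])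
    have hb := hx2.resolve_right hh
    obtain ⟨u, v, huv⟩ := Ideal.mem_span_pair.mp (sub_eval_mem b s)
    rw [hb, map_zero, sub_zero] at huv
    rw [← huv, ker3, add_mul, mul_assoc, mul_assoc, mul_comm _ h, mul_comm _ h]
    refine add_mem (Ideal.mul_mem_left _ _ (Ideal.subset_span (Set.mem_insert _ _))) (add_mem
      (Ideal.mul_mem_left _ _ (Ideal.subset_span (Set.mem_insert_of_mem _ (Set.mem_insert _ _))))
      (Ideal.mul_mem_left _ _ (Ideal.subset_span (Set.mem_insert_of_mem _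
        (Set.mem_insert_of_mem _ rfl)))))
  · have hh : F₁ h = 0 := RingHom.mem_ker.mp (hF₁ ▸ Ideal.subset_span (Set.mem_insert_of_mem _ rfl))
    have hf : F₁ (fq q) = 0 := RingHom.mem_ker.mp (hF₁ ▸ Ideal.subset_span (Set.mem_insert _ _))
    rw [ker3, Ideal.span_le]
    rintro x (rfl | rfl | rfl) <;> rw [SetLike.mem_coe, RingHom.mem_ker, hF]
    · refine Prod.ext hf ?_
      simp [fq, ← hs, sq]
    · simp [hh]
    · simp [hh]

end kernel

section criterion

variable {p e : ℕ} [Fact p.Prime] {D : ℕ} {P : Polynomial ℤ} {h : P2} {s : ℤ}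

lemma Datum.eval_zero_h {q : ℤ} (d : Datum q D P h) (hq : (p : ℤ) ∣ q) :
    (((eval (fun _ => (0 : ℤ)) h : ℤ)) : ZMod p) = ((P.coeff D : ℤ) : ZMod p) := by
  obtain ⟨ε, -, hd⟩ := d.exists_hcan
  obtain ⟨c, hc⟩ := Ideal.mem_span_singleton.mp hd
  have hq0 : ((q : ℤ) : ZMod p) = 0 := (ZMod.intCast_zmod_eq_zero_iff_dvd _ _).mpr hq
  have := congrArg (fun x => ((eval (fun _ => (0 : ℤ)) x : ℤ) : ZMod p)) hc
  simp only [map_sub, map_mul, fq, eval_X, eval_C, Int.cast_sub, Int.cast_mul, hq0] at this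
  simp only [Int.cast_zero, mul_zero, sub_self, zero_mul, sub_eq_zero] at this
  rw [this, hcan]
  simp [Finset.sum_range_succ']

variable {S : Type u} [CommRing S] (F : P2 →ₐ[ℤ] S)

theorem gorenstein_of_not_dvd (he : 0 < e) (hs : s ^ 2 = (p : ℤ) ^ e)
    (d : Datum ((p : ℤ) ^ e) D P h) (hF : RingHom.ker F = ker3 ((p : ℤ) ^ e) h s)
    (hc : ¬ (p : ℤ) ∣ P.coeff D) : LocCoh.IsGorensteinRing F.range := by
  haveI := isGorensteinRing_uliftInt.{u}
  haveI := Groth.Agent.Goren15.isGorensteinRing_mvPolynomial (ULift.{u} ℤ) 2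
  let σ : MvPolynomial (Fin 2) (ULift.{u} ℤ) ≃+* P2 := MvPolynomial.mapEquiv (Fin 2) ULift.ringEquiv
  let π : MvPolynomial (Fin 2) (ULift.{u} ℤ) →+* F.range := F.rangeRestrict.toRingHom.comp σ.toRingHom
  have hπ : Function.Surjective π := F.rangeRestrict_surjective.comp σ.surjective
  haveI : IsNoetherianRing F.range := isNoetherianRing_of_surjective _ _ π hπ
  have hkerπ : ∀ x, x ∈ RingHom.ker π ↔ σ x ∈ ker3 ((p : ℤ) ^ e) h s := fun x => by
    rw [← hF]; exact Subtype.ext_iff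
  -- quotients of the source by ideals of `P2`
  have quot : ∀ (J : Ideal P2) (T : Type u) (_ : CommRing T) (G : P2 →+* T),
      Function.Surjective G → RingHom.ker G = J → LocCoh.IsGorensteinRing T →
      LocCoh.IsGorensteinRing (MvPolynomial (Fin 2) (ULift.{u} ℤ) ⧸ J.comap σ.toRingHom) :=
    fun J T _ G hG hk hT => by
      have hker : RingHom.ker (G.comp σ.toRingHom) = J.comap σ.toRingHom := by
        rw [← hk]; rfl
      exact Goren15.isGorensteinRing_of_ringEquiv
        ((RingHom.quotientKerEquivOfSurjective (f := G.comp σ.toRingHom)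
          (hG.comp σ.surjective)).symm.trans (Ideal.quotEquivOfEq hker))
  have pair : ∀ g : P2, g ∉ Ideal.span {fq ((p : ℤ) ^ e)} →
      LocCoh.IsGorensteinRing
        (MvPolynomial (Fin 2) (ULift.{u} ℤ) ⧸ (Ideal.span {fq ((p : ℤ) ^ e), g}).comap σ.toRingHom) := by
    intro g hg
    have hcm : (Ideal.span {fq ((p : ℤ) ^ e), g}).comap σ.toRingHom =
        Ideal.span {σ.symm (fq ((p : ℤ) ^ e)), σ.symm g} := by
      refine Eq.trans (Ideal.map_symm σ).symm ?_
      rw [Ideal.map_span, Set.image_pair]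
    haveI : IsDomain (ULift.{u} ℤ) := (ULift.ringEquiv : ULift.{u} ℤ ≃+* ℤ).isDomain
    refine isGorensteinRing_of_pair (Ideal.Quotient.mk _) Ideal.Quotient.mk_surjective
      (σ.symm (fq ((p : ℤ) ^ e))) (σ.symm g) (by rw [Ideal.mk_ker, hcm])
      (mem_nonZeroDivisors_of_ne_zero ((map_ne_zero_iff _ σ.symm.injective).mpr fq_ne_zero)) ?_
    rw [mem_nonZeroDivisors_iff_right]
    intro x hx
    obtain ⟨x, rfl⟩ := Ideal.Quotient.mk_surjective x
    rw [← map_mul, Ideal.Quotient.eq_zero_iff_mem, Ideal.mem_span_singleton] at hx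
    rw [Ideal.Quotient.eq_zero_iff_mem, Ideal.mem_span_singleton]
    have h1 : σ x * g ∈ Ideal.span {fq ((p : ℤ) ^ e)} := by
      have := map_dvd σ hx
      rwa [σ.apply_symm_apply, map_mul, σ.apply_symm_apply, ← Ideal.mem_span_singleton] at this
    have := map_dvd σ.symm (Ideal.mem_span_singleton.mp
      (((fq_prime d.q_ne).mem_or_mem h1).resolve_right hg))
    rwa [σ.symm_apply_apply] at this
  have hphi : ∀ {g : P2}, phi ((p : ℤ) ^ e) g ≠ 0 → g ∉ Ideal.span {fq ((p : ℤ) ^ e)} := fun hg hm => by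
    rw [← ker_phi d.q_ne] at hm; exact hg hm
  have hh0 : phi ((p : ℤ) ^ e) h ≠ 0 := fun h0 => by
    have := d.phi_eq
    rw [h0, mul_zero] at this
    exact d.monic.ne_zero (aeval_ratFuncX_eq_zero this.symm)
  have hy0 : phi ((p : ℤ) ^ e) (X 1 - C s) ≠ 0 := fun h0 => by
    rw [map_sub, phi_X1, sub_eq_zero, div_eq_iff RatFunc.X_ne_zero] at h0
    have := aeval_ratFuncX_eq_zero (G := Polynomial.C ((p : ℤ) ^ e) - Polynomial.C s * Polynomial.X)
      (by simp [phi] at h0 ⊢; rw [h0]; ring)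
    have := congrArg (Polynomial.eval 0) this
    simp at this
    exact (Fact.out : p.Prime).ne_zero this.1
  refine ⟨fun Q _ => ?_⟩
  let Q₀ : Ideal P2 := (Q.comap π).comap σ.symm.toRingHom
  have hQ₀ : ∀ x : P2, x ∈ Q₀ ↔ π (σ.symm x) ∈ Q := fun x => Iff.rfl
  have hkQ : ker3 ((p : ℤ) ^ e) h s ≤ Q₀ := fun x hx => by
    rw [hQ₀, (RingHom.mem_ker.mp ((hkerπ (σ.symm x)).mpr (by rwa [σ.apply_symm_apply])) : π (σ.symm x) = 0)]
    exact Q.zero_mem
  have hsub : ker3 ((p : ℤ) ^ e) h s ≤ Ideal.span {fq ((p : ℤ) ^ e), h} := by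
    rw [ker3, Ideal.span_le]
    rintro x (rfl | rfl | rfl)
    · exact Ideal.subset_span (Set.mem_insert _ _)
    · exact Ideal.mul_mem_right _ _ (Ideal.subset_span (Set.mem_insert_of_mem _ rfl))
    · exact Ideal.mul_mem_right _ _ (Ideal.subset_span (Set.mem_insert_of_mem _ rfl))
  have near : ∀ (J : Ideal P2) (t : P2), t ∉ Q₀ →
      (∀ x ∈ ker3 ((p : ℤ) ^ e) h s, t * x ∈ J) → (∀ x ∈ J, t * x ∈ ker3 ((p : ℤ) ^ e) h s) →
      LocCoh.IsGorensteinRing (MvPolynomial (Fin 2) (ULift.{u} ℤ) ⧸ J.comap σ.toRingHom) →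
      LocCoh.IsGorensteinLocalRing (Localization.AtPrime Q) := by
    intro J t ht h1 h2 hJ
    refine gorenstein_localization_of_eq_near π hπ Q _ hJ (σ.symm t) ht (fun x hx => ?_) fun x hx => ?_
    · show σ (σ.symm t * x) ∈ J
      rw [map_mul, σ.apply_symm_apply]; exact h1 _ ((hkerπ x).mp hx)
    · rw [hkerπ, map_mul, σ.apply_symm_apply]; exact h2 _ hx
  have hfk : fq ((p : ℤ) ^ e) ∈ ker3 ((p : ℤ) ^ e) h s := Ideal.subset_span (Set.mem_insert _ _)
  have hhx : h * (X 0 - C s) ∈ ker3 ((p : ℤ) ^ e) h s :=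
    Ideal.subset_span (Set.mem_insert_of_mem _ (Set.mem_insert _ _))
  have hhy : h * (X 1 - C s) ∈ ker3 ((p : ℤ) ^ e) h s :=
    Ideal.subset_span (Set.mem_insert_of_mem _ (Set.mem_insert_of_mem _ rfl))
  have branch : ∀ g : P2, g ∉ Q₀ → h * g ∈ ker3 ((p : ℤ) ^ e) h s →
      LocCoh.IsGorensteinLocalRing (Localization.AtPrime Q) := fun g hg hhg => by
    refine near _ g hg (fun x hx => Ideal.mul_mem_left _ _ (hsub hx)) (fun x hx => ?_)
      (pair h (hphi hh0))
    obtain ⟨a, b, rfl⟩ := Ideal.mem_span_pair.mp hx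
    rw [show g * (a * fq ((p : ℤ) ^ e) + b * h) = g * a * fq ((p : ℤ) ^ e) + b * (h * g) by ring]
    exact add_mem (Ideal.mul_mem_left _ _ hfk) (Ideal.mul_mem_left _ _ hhg)
  by_cases hx : (X 0 : P2) - C s ∈ Q₀
  swap; · exact branch _ hx hhx
  by_cases hy : (X 1 : P2) - C s ∈ Q₀
  swap; · exact branch _ hy hhy
  by_cases hh : h ∈ Q₀
  · -- here `s` is a unit and the ideal of the point is principal
    have hsQ : (C s : P2) ∉ Q₀ := by
      intro hsQ
      have hX : ∀ k : Fin 2, (X k : P2) ∈ Q₀ := Fin.forall_fin_two.mpr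
        ⟨by simpa using add_mem hx hsQ, by simpa using add_mem hy hsQ⟩
      have hpQ : (C (p : ℤ) : P2) ∈ Q₀ := by
        haveI : Q₀.IsPrime := inferInstance
        refine Ideal.IsPrime.mem_of_pow_mem ‹_› e ?_
        rw [← map_pow, ← hs, map_pow]
        exact Ideal.pow_mem_of_mem _ hsQ 2 two_pos
      have hm := sub_eval_mem h 0
      rw [map_zero, sub_zero, sub_zero] at hm
      have hm' : h - C (eval (fun _ => (0 : ℤ)) h) ∈ Q₀ :=
        (Ideal.span_le.mpr (by rintro y (rfl | rfl) <;> exact hX _)) hm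
      have hc0 : (C (eval (fun _ => (0 : ℤ)) h) : P2) ∈ Q₀ := by simpa using sub_mem hh hm'
      have hnd : ¬ (p : ℤ) ∣ eval (fun _ => (0 : ℤ)) h := by
        rw [← ZMod.intCast_zmod_eq_zero_iff_dvd,
          d.eval_zero_h (dvd_pow_self _ (by omega)), ZMod.intCast_zmod_eq_zero_iff_dvd]
        exact hc
      obtain ⟨u, v, huv⟩ := ((Nat.prime_iff_prime_int.mp Fact.out).coprime_iff_not_dvd).mpr hnd
      have : (1 : P2) ∈ Q₀ := by
        rw [← map_one C, ← huv, map_add, map_mul, map_mul]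
        exact add_mem (Q₀.mul_mem_left _ hpQ) (Q₀.mul_mem_left _ hc0)
      exact (inferInstance : Q₀.IsPrime).ne_top ((Ideal.eq_top_iff_one _).mpr this)
    have hY : (X 1 : P2) ∉ Q₀ := fun hY => hsQ (by simpa using sub_mem hY hy)
    have hid : (X 1 : P2) * (X 0 - C s) = fq ((p : ℤ) ^ e) + C s * -(X 1 - C s) := by
      rw [fq, ← hs, map_pow]; ring
    refine near (Ideal.span {fq ((p : ℤ) ^ e), h * (X 1 - C s)}) (X 1) hY (fun x hx => ?_) (fun x hx => ?_)
      (pair _ (hphi (by rw [map_mul]; exact mul_ne_zero hh0 hy0)))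
    · rw [ker3] at hx
      induction hx using Submodule.span_induction with
      | mem x hx =>
        rcases hx with rfl | rfl | rfl
        · exact Ideal.mul_mem_left _ _ (Ideal.subset_span (Set.mem_insert _ _))
        · rw [mul_left_comm, hid, mul_add, mul_comm (C s), ← mul_assoc, mul_neg, neg_mul]
          exact add_mem (Ideal.mul_mem_left _ _ (Ideal.subset_span (Set.mem_insert _ _)))
            (neg_mem (Ideal.mul_mem_right _ _ (Ideal.subset_span (Set.mem_insert_of_mem _ rfl))))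
        · exact Ideal.mul_mem_left _ _ (Ideal.subset_span (Set.mem_insert_of_mem _ rfl))
      | zero => simp
      | add a b _ _ ha hb => rw [mul_add]; exact add_mem ha hb
      | smul c a _ ha => rw [smul_eq_mul, mul_left_comm]; exact Ideal.mul_mem_left _ _ ha
    · obtain ⟨a, b, rfl⟩ := Ideal.mem_span_pair.mp hx
      exact Ideal.mul_mem_left _ _ (add_mem (Ideal.mul_mem_left _ _ hfk) (Ideal.mul_mem_left _ _ hhy))
  · -- away from the other component
    refine near (Ideal.span {(X 0 : P2) - C s, X 1 - C s}) h hh ?_ ?_ ?_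
    · intro x hx
      refine Ideal.mul_mem_left _ _ ?_
      refine (Ideal.span_le.mpr ?_) hx
      rintro y (rfl | rfl | rfl)
      · have e : fq ((p : ℤ) ^ e) = X 1 * (X 0 - C s) + C s * (X 1 - C s) := by
          rw [fq, ← hs, map_pow]; ring
        rw [SetLike.mem_coe, e]
        exact add_mem (Ideal.mul_mem_left _ _ (Ideal.subset_span (Set.mem_insert _ _)))
          (Ideal.mul_mem_left _ _ (Ideal.subset_span (Set.mem_insert_of_mem _ rfl)))
      · exact Ideal.mul_mem_left _ _ (Ideal.subset_span (Set.mem_insert _ _))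
      · exact Ideal.mul_mem_left _ _ (Ideal.subset_span (Set.mem_insert_of_mem _ rfl))
    · intro x hx
      obtain ⟨a, b, rfl⟩ := Ideal.mem_span_pair.mp hx
      rw [mul_add, mul_left_comm, mul_left_comm h b]
      exact add_mem (Ideal.mul_mem_left _ _ hhx) (Ideal.mul_mem_left _ _ hhy)
    · refine quot _ (ULift.{u} ℤ) inferInstance
        ((ULift.ringEquiv : ULift.{u} ℤ ≃+* ℤ).symm.toRingHom.comp (eval fun _ => s))
        (fun z => ⟨C z.down, ULift.ext _ _ (by simp)⟩) ?_ isGorensteinRing_uliftInt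
      ext x
      rw [RingHom.mem_ker]
      constructor
      · intro hx
        have h0 : eval (fun _ => s) x = 0 := congrArg ULift.down hx
        simpa [h0] using sub_eval_mem x s
      · intro hx
        obtain ⟨a, b, rfl⟩ := Ideal.mem_span_pair.mp hx
        simp

theorem not_gorenstein_of_dvd [CharZero S] (he : 0 < e) (hs : s ^ 2 = (p : ℤ) ^ e)
    (d : Datum ((p : ℤ) ^ e) D P h) (hF : RingHom.ker F = ker3 ((p : ℤ) ^ e) h s)
    (hreg : ∀ x : S, (p : S) * x = 0 → x = 0) (hc : (p : ℤ) ∣ P.coeff D) :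
    ¬ LocCoh.IsGorensteinRing F.range := by
  intro hG
  have hp : p.Prime := Fact.out
  have hD : 1 ≤ D := by
    by_contra hD0
    have hD0' : D = 0 := by omega
    subst hD0'
    rw [show P.coeff 0 = 1 by simpa using d.coeff_top] at hc
    exact hp.ne_one (by exact_mod_cast Int.eq_one_of_dvd_one (by positivity) hc)
  obtain ⟨ε, hεε, hd⟩ := d.exists_hcan
  have hk3 : ker3 ((p : ℤ) ^ e) h s = ker3 ((p : ℤ) ^ e) (hcan D ε P) s := by
    obtain ⟨c, hc'⟩ := Ideal.mem_span_singleton.mp hd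
    have he1 : h = hcan D ε P + fq ((p : ℤ) ^ e) * c := by rw [← hc']; ring
    rw [he1]
    apply le_antisymm <;> rw [ker3, ker3, Ideal.span_le] <;> rintro x (rfl | rfl | rfl)
    · exact Ideal.subset_span (Set.mem_insert _ _)
    · rw [add_mul, mul_assoc]
      exact add_mem (Ideal.subset_span (Set.mem_insert_of_mem _ (Set.mem_insert _ _)))
        (Ideal.mul_mem_right _ _ (Ideal.subset_span (Set.mem_insert _ _)))
    · rw [add_mul, mul_assoc]
      exact add_mem (Ideal.subset_span (Set.mem_insert_of_mem _ (Set.mem_insert_of_mem _ rfl)))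
        (Ideal.mul_mem_right _ _ (Ideal.subset_span (Set.mem_insert _ _)))
    · exact Ideal.subset_span (Set.mem_insert _ _)
    · rw [show hcan D ε P * (X 0 - C s) = (hcan D ε P + fq ((p : ℤ) ^ e) * c) * (X 0 - C s) -
          fq ((p : ℤ) ^ e) * (c * (X 0 - C s)) by ring]
      exact sub_mem (Ideal.subset_span (Set.mem_insert_of_mem _ (Set.mem_insert _ _)))
        (Ideal.mul_mem_right _ _ (Ideal.subset_span (Set.mem_insert _ _)))
    · rw [show hcan D ε P * (X 1 - C s) = (hcan D ε P + fq ((p : ℤ) ^ e) * c) * (X 1 - C s) -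
          fq ((p : ℤ) ^ e) * (c * (X 1 - C s)) by ring]
      exact sub_mem (Ideal.subset_span (Set.mem_insert_of_mem _ (Set.mem_insert_of_mem _ rfl)))
        (Ideal.mul_mem_right _ _ (Ideal.subset_span (Set.mem_insert _ _)))
  rw [hk3] at hF
  have hps : (p : ℤ) ∣ s :=
    (Nat.prime_iff_prime_int.mp hp).dvd_of_dvd_pow (n := 2) (hs ▸ dvd_pow_self _ (by omega))
  have hpq : (p : ℤ) ∣ (p : ℤ) ^ e := dvd_pow_self _ (by omega)
  let ap : P2 := ∑ r ∈ Finset.range D, P.coeff (D + (r + 1)) • X 0 ^ (r + 1)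
  let bp : P2 := ε • ∑ r ∈ Finset.range D, P.coeff (D + (r + 1)) • X 1 ^ (r + 1)
  have hsplit : hcan D ε P = ap + C (P.coeff D) + bp := by
    rw [hcan, Finset.sum_range_succ']
    simp [ap, bp, MvPolynomial.smul_eq_C_mul]
  -- `K` is the ideal of the special fibre
  let K : Ideal P2 := ker3 ((p : ℤ) ^ e) (hcan D ε P) s ⊔ Ideal.span {C (p : ℤ)}
  have hCK : ∀ z : ℤ, (p : ℤ) ∣ z → (C z : P2) ∈ K := fun z hz => by
    obtain ⟨w, rfl⟩ := hz
    rw [map_mul]
    exact Ideal.mul_mem_right _ _ (Ideal.mem_sup_right (Ideal.mem_span_singleton_self _))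
  have hXY : (X 0 * X 1 : P2) ∈ K := by
    rw [show (X 0 * X 1 : P2) = fq ((p : ℤ) ^ e) + C ((p : ℤ) ^ e) by rw [fq]; ring]
    exact add_mem (Ideal.mem_sup_left (Ideal.subset_span (Set.mem_insert _ _))) (hCK _ hpq)
  have hhk : ∀ k : Fin 2, X k * hcan D ε P ∈ K := fun k => by
    rw [show X k * hcan D ε P = hcan D ε P * (X k - C s) + hcan D ε P * C s by ring]
    refine add_mem (Ideal.mem_sup_left (Ideal.subset_span ?_)) (Ideal.mul_mem_left _ _ (hCK _ hps))
    fin_cases k <;> simp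
  have hYa : X 1 * ap ∈ K := by
    rw [Finset.mul_sum]
    refine sum_mem fun r _ => ?_
    rw [mul_smul_comm, pow_succ', ← mul_assoc, mul_comm (X 1)]
    exact zsmul_mem (Ideal.mul_mem_right _ _ hXY) _
  have hXb : X 0 * bp ∈ K := by
    rw [mul_smul_comm, Finset.mul_sum]
    refine zsmul_mem (sum_mem fun r _ => ?_) _
    rw [mul_smul_comm, pow_succ', ← mul_assoc]
    exact zsmul_mem (Ideal.mul_mem_right _ _ hXY) _
  have hXa : X 0 * ap ∈ K := by
    rw [show X 0 * ap = X 0 * hcan D ε P - X 0 * bp - X 0 * C (P.coeff D) by rw [hsplit]; ring]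
    exact sub_mem (sub_mem (hhk 0) hXb) (Ideal.mul_mem_left _ _ (hCK _ hc))
  have hYb : X 1 * bp ∈ K := by
    rw [show X 1 * bp = X 1 * hcan D ε P - X 1 * ap - X 1 * C (P.coeff D) by rw [hsplit]; ring]
    exact sub_mem (sub_mem (hhk 1) hYa) (Ideal.mul_mem_left _ _ (hCK _ hc))
  -- the point and the local ring
  let χ : P2 →+* ZMod p := (Int.castRingHom (ZMod p)).comp (eval fun _ => (0 : ℤ))
  have hcm : ∀ z : ℤ, (p : ℤ) ∣ z → χ (C z) = 0 := fun z hz => by
    simp [χ, (ZMod.intCast_zmod_eq_zero_iff_dvd z p).mpr hz]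
  have hχX : ∀ k, χ (X k) = 0 := fun k => by simp [χ]
  have hKχ : ∀ x ∈ K, χ x = 0 := by
    intro x hx
    obtain ⟨y, hy, z, hz, rfl⟩ := Submodule.mem_sup.mp hx
    obtain ⟨w, rfl⟩ := Ideal.mem_span_singleton.mp hz
    rw [map_add, map_mul, hcm _ dvd_rfl, zero_mul, add_zero]
    refine RingHom.mem_ker.mp ((Ideal.span_le.mpr ?_) hy)
    rintro t (rfl | rfl | rfl) <;>
      simp only [SetLike.mem_coe, RingHom.mem_ker, fq, map_sub, map_mul, hχX, hcm _ hps, hcm _ hpq,
        mul_zero, sub_zero]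
  let F' : P2 →+* F.range := F.rangeRestrict.toRingHom
  have hF' : Function.Surjective F' := F.rangeRestrict_surjective
  have hFker : ∀ x, F' x = 0 → x ∈ K := fun x hx =>
    Ideal.mem_sup_left (hF ▸ (RingHom.mem_ker.mpr (congrArg Subtype.val hx) : x ∈ RingHom.ker F))
  let M : Ideal F.range := (RingHom.ker χ).map F'
  have hMK : ∀ x : P2, F' x ∈ M ↔ χ x = 0 := fun x => by
    refine ⟨fun hx => ?_, fun hx => Ideal.mem_map_of_mem _ hx⟩
    obtain ⟨y, hy, hxy⟩ := (Ideal.mem_map_iff_of_surjective _ hF').mp hx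
    have := hKχ _ (hFker (y - x) (by rw [map_sub, hxy, sub_self]))
    rwa [map_sub, RingHom.mem_ker.mp hy, zero_sub, neg_eq_zero] at this
  haveI : (RingHom.ker χ).IsPrime := RingHom.ker_isPrime χ
  haveI hMp : M.IsPrime := Ideal.map_isPrime_of_surjective hF' fun x hx =>
    hKχ x (hFker x (RingHom.mem_ker.mp hx))
  let L := Localization.AtPrime M
  haveI hL : LocCoh.IsGorensteinLocalRing L := hG.isGorensteinLocalRing_localization M
  let f : L := algebraMap F.range L (F' (C (p : ℤ)))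
  have hpM : F' (C (p : ℤ)) ∈ M := (hMK _).mpr (hcm _ dvd_rfl)
  have hfm : f ∈ IsLocalRing.maximalIdeal L :=
    (IsLocalization.AtPrime.to_map_mem_maximal_iff L M _).mpr hpM
  have hfreg : IsSMulRegular L f := by
    refine (isSMulRegular_iff_right_eq_zero_of_smul (R := L) (M := L)).2 fun x hx => ?_
    have hnzd : F' (C (p : ℤ)) ∈ nonZeroDivisors F.range := mem_nonZeroDivisors_iff.2
      ⟨fun y hy => Subtype.ext (hreg _ (by simpa [F'] using congrArg Subtype.val hy)),
       fun y hy => Subtype.ext (hreg _ (by rw [mul_comm]; simpa [F'] using congrArg Subtype.val hy))⟩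
    exact (mem_nonZeroDivisors_iff.1 (IsLocalization.map_nonZeroDivisors_le M.primeCompl _
      (Submonoid.mem_map_of_mem _ hnzd))).1 x hx
  haveI hLb := (Groth.Agent.S0343.result L f hfm hfreg).1 hL
  -- the map to the special fibre
  let ψ : P2 →+* L ⧸ Ideal.span {f} :=
    (Ideal.Quotient.mk _).comp ((algebraMap F.range L).comp F')
  have hψ : ∀ x, ψ x = 0 → ∃ t, χ t ≠ 0 ∧ t * x ∈ K := fun x hx => by
    obtain ⟨l, hl⟩ := Ideal.mem_span_singleton.mp (Ideal.Quotient.eq_zero_iff_mem.mp hx)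
    obtain ⟨y, u, rfl⟩ := IsLocalization.exists_mk'_eq M.primeCompl l
    obtain ⟨y, rfl⟩ := hF' y
    obtain ⟨u, hu⟩ := u
    obtain ⟨u, rfl⟩ := hF' u
    have h1 : algebraMap F.range L (F' (x * u)) = algebraMap F.range L (F' (C (p : ℤ) * y)) := by
      rw [map_mul, map_mul, map_mul, map_mul]
      show (((algebraMap F.range L).comp F') x) * _ = _
      rw [hl, mul_assoc, IsLocalization.mk'_spec]
    obtain ⟨⟨t, ht⟩, hteq⟩ := (IsLocalization.eq_iff_exists M.primeCompl L).mp h1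
    obtain ⟨t, rfl⟩ := hF' t
    refine ⟨t * u, fun h0 => ?_, ?_⟩
    · rw [map_mul, mul_eq_zero] at h0
      rcases h0 with h0 | h0
      · exact ht ((hMK _).mpr h0)
      · exact hu ((hMK _).mpr h0)
    · have h2 : F' (t * u * x - t * (C (p : ℤ) * y)) = 0 := by
        simp only [map_sub, map_mul] at hteq ⊢
        rw [sub_eq_zero]
        linear_combination hteq
      rw [show t * u * x = (t * u * x - t * (C (p : ℤ) * y)) + t * (C (p : ℤ) * y) by ring]
      exact add_mem (hFker _ h2) (Ideal.mul_mem_left _ _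
        (Ideal.mul_mem_right _ _ (hCK _ dvd_rfl)))
  have hψK : ∀ x ∈ K, ψ x = 0 := by
    intro x hx
    obtain ⟨y, hy, z, hz, rfl⟩ := Submodule.mem_sup.mp hx
    obtain ⟨w, rfl⟩ := Ideal.mem_span_singleton.mp hz
    have hy' : F' y = 0 := Subtype.ext (RingHom.mem_ker.mp (hF ▸ hy : y ∈ RingHom.ker F))
    have hp' : ψ (C (p : ℤ)) = 0 :=
      Ideal.Quotient.eq_zero_iff_mem.mpr (Ideal.mem_span_singleton_self _)
    rw [map_add, map_mul, hp', zero_mul, add_zero]
    simp [ψ, hy']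
  -- killed by the maximal ideal
  have hann : ∀ x : P2, (X 0 * x ∈ K) → (X 1 * x ∈ K) → ∀ w, χ w = 0 → w * x ∈ K := fun x h0 h1 w hw => by
    have hm := sub_eval_mem w 0
    rw [map_zero, sub_zero, sub_zero] at hm
    obtain ⟨u, v, huv⟩ := Ideal.mem_span_pair.mp hm
    have he0 : (p : ℤ) ∣ eval (fun _ => (0 : ℤ)) w := (ZMod.intCast_zmod_eq_zero_iff_dvd _ _).mp hw
    rw [show w * x = u * (X 0 * x) + v * (X 1 * x) + C (eval (fun _ => (0 : ℤ)) w) * x by
      linear_combination (-x) * huv]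
    exact add_mem (add_mem (Ideal.mul_mem_left _ _ h0) (Ideal.mul_mem_left _ _ h1))
      (Ideal.mul_mem_right _ _ (hCK _ he0))
  have hsoc : ∀ x : P2, (X 0 * x ∈ K) → (X 1 * x ∈ K) →
      ∀ r ∈ IsLocalRing.maximalIdeal (L ⧸ Ideal.span {f}), r * ψ x = 0 := fun x h0 h1 r hr => by
    obtain ⟨r, rfl⟩ := Ideal.Quotient.mk_surjective r
    have hr' : r ∈ IsLocalRing.maximalIdeal L := by
      rw [IsLocalRing.mem_maximalIdeal] at hr ⊢
      exact fun hu => hr (hu.map _)
    rw [← IsLocalization.AtPrime.map_eq_maximalIdeal M L] at hr'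
    clear hr
    induction hr' using Submodule.span_induction with
    | mem r hr' =>
      obtain ⟨m, hm, rfl⟩ := hr'
      obtain ⟨w, rfl⟩ := hF' m
      show ψ w * ψ x = 0
      rw [← map_mul]
      exact hψK _ (hann x h0 h1 w ((hMK w).mp hm))
    | zero => simp
    | add a b _ _ ha hb => rw [map_add, add_mul, ha, hb, add_zero]
    | smul c a _ ha => rw [smul_eq_mul, map_mul, mul_assoc, ha, mul_zero]
  -- restriction to the two branches
  let br : Fin 2 → (P2 →+* Polynomial (ZMod p)) := fun k =>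
    eval₂Hom (Polynomial.C.comp (Int.castRingHom (ZMod p))) fun j => if j = k then Polynomial.X else 0
  let g : Polynomial (ZMod p) :=
    ∑ r ∈ Finset.range D, Polynomial.C ((P.coeff (D + (r + 1)) : ℤ) : ZMod p) * Polynomial.X ^ (r + 1)
  have hg : g ≠ 0 := fun h0 => by
    have h1 := congrArg (fun t : Polynomial (ZMod p) => t.coeff D) h0
    simp only [g, Polynomial.finsetSum_coeff, Polynomial.coeff_C_mul_X_pow, Polynomial.coeff_zero] at h1
    rw [Finset.sum_eq_single (D - 1), if_pos (by omega), show D + (D - 1 + 1) = D + D by omega,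
      d.coeff_top, Int.cast_one] at h1
    · exact one_ne_zero h1
    · intro j _ hj; rw [if_neg]; omega
    · intro hj; exact absurd (Finset.mem_range.mpr (by omega)) hj
  have brC : ∀ k z, (p : ℤ) ∣ z → br k (C z) = 0 := fun k z hz => by
    simp only [br, eval₂Hom_C, RingHom.comp_apply, Int.coe_castRingHom, (ZMod.intCast_zmod_eq_zero_iff_dvd z p).mpr hz, map_zero]
  have bra : br 0 ap = g := by
    simp only [ap, g, map_sum, MvPolynomial.smul_eq_C_mul, map_mul, map_pow, br, eval₂Hom_C, eval₂Hom_X', RingHom.comp_apply, Int.coe_castRingHom, if_pos]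
  have bra' : br 1 ap = 0 := by simp [br, ap, map_sum]
  have brb : br 1 bp = (ε : Polynomial (ZMod p)) * g := by
    simp only [bp, g, map_sum, MvPolynomial.smul_eq_C_mul, map_mul, map_pow, br, eval₂Hom_C, eval₂Hom_X', RingHom.comp_apply, Int.coe_castRingHom, if_pos, Finset.mul_sum, Polynomial.C_eq_intCast, map_intCast]
  have brb' : br 0 bp = 0 := by simp [br, bp, map_sum]
  have brK : ∀ k, ∀ x ∈ K, br k x ∈ Ideal.span {Polynomial.X * br k (hcan D ε P)} := fun k x hx => by
    obtain ⟨y, hy, z, hz, rfl⟩ := Submodule.mem_sup.mp hx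
    obtain ⟨w, rfl⟩ := Ideal.mem_span_singleton.mp hz
    rw [map_add, map_mul, brC k _ dvd_rfl, zero_mul, add_zero]
    show y ∈ (Ideal.span {Polynomial.X * br k (hcan D ε P)}).comap (br k)
    refine (Ideal.span_le.mpr ?_) hy
    rintro t (rfl | rfl | rfl) <;> rw [SetLike.mem_coe, Ideal.mem_comap]
    · fin_cases k <;> simp [fq, brC _ _ hpq, map_sub, br] <;>
        simp [(ZMod.intCast_zmod_eq_zero_iff_dvd _ p).mpr hpq, zero_pow (show e ≠ 0 by omega)]
    · rw [map_mul, map_sub, brC k _ hps, sub_zero, mul_comm]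
      fin_cases k <;> simp [br, Ideal.mem_span_singleton]
    · rw [map_mul, map_sub, brC k _ hps, sub_zero, mul_comm]
      fin_cases k <;> simp [br, Ideal.mem_span_singleton]
  -- constants
  have hconst : ∀ (k : Fin 2) (x : P2), (X 0 * x ∈ K) → (X 1 * x ∈ K) → ∀ w,
      br k (w * x) - Polynomial.C (χ w) * br k x ∈ Ideal.span {Polynomial.X * br k (hcan D ε P)} :=
    fun k x h0 h1 w => by
      have hw : χ (w - C (eval (fun _ => (0 : ℤ)) w)) = 0 := by simp [χ]
      have := brK k _ (hann x h0 h1 _ hw)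
      rw [sub_mul, map_sub, map_mul (br k) (C _)] at this
      simpa [br, χ] using this
  have hh0 : br 0 (hcan D ε P) = g := by
    rw [hsplit, map_add, map_add, bra, brb', brC 0 _ hc, add_zero, add_zero]
  have hh1 : br 1 (hcan D ε P) = (ε : Polynomial (ZMod p)) * g := by
    rw [hsplit, map_add, map_add, bra', brb, brC 1 _ hc, add_zero, zero_add]
  have hεg : (ε : Polynomial (ZMod p)) * g ≠ 0 := by
    refine mul_ne_zero ?_ hg
    intro h0
    have h1 : ((ε * ε : ℤ) : Polynomial (ZMod p)) = 0 := by push_cast; rw [h0, mul_zero]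
    rw [hεε, Int.cast_one] at h1
    exact one_ne_zero h1
  have final : ∀ (G : Polynomial (ZMod p)) (c : ZMod p), G ≠ 0 → c ≠ 0 →
      Polynomial.C c * G ∉ Ideal.span {Polynomial.X * G} := fun G c hG hc hm => by
    obtain ⟨w, hw⟩ := Ideal.mem_span_singleton.mp hm
    have h1 : (Polynomial.C c - Polynomial.X * w) * G = 0 := by linear_combination hw
    have h2 := congrArg (fun t : Polynomial (ZMod p) => t.coeff 0)
      ((mul_eq_zero.mp h1).resolve_right hG)
    simp at h2
    exact hc h2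
  have hb0 : ψ bp ≠ 0 := fun h0 => by
    obtain ⟨t, ht, htK⟩ := hψ bp h0
    have h1 := sub_mem (brK 1 _ htK) (hconst 1 bp hXb hYb t)
    rw [sub_sub_cancel, brb, hh1] at h1
    exact final _ _ hεg ht h1
  obtain ⟨c, hc'⟩ := exists_mul_eq_of_socle (L ⧸ Ideal.span {f}) hb0 (hsoc bp hXb hYb) (hsoc ap hXa hYa)
  obtain ⟨c, rfl⟩ := Ideal.Quotient.mk_surjective c
  obtain ⟨y, u, rfl⟩ := IsLocalization.exists_mk'_eq M.primeCompl c
  obtain ⟨y, rfl⟩ := hF' y
  obtain ⟨u, hu⟩ := u
  obtain ⟨u, rfl⟩ := hF' u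
  have h1 : ψ (u * ap - y * bp) = 0 := by
    rw [map_sub, map_mul, map_mul, hc', sub_eq_zero, ← mul_assoc]
    congr 1
    show Ideal.Quotient.mk _ (algebraMap F.range L (F' u)) * Ideal.Quotient.mk _ _ = Ideal.Quotient.mk _ _
    rw [← map_mul, mul_comm, IsLocalization.mk'_spec]
    rfl
  obtain ⟨t, ht, htK⟩ := hψ _ h1
  rw [mul_sub, ← mul_assoc, ← mul_assoc] at htK
  have h2 := sub_mem (brK 0 _ htK) (hconst 0 ap hXa hYa (t * u))
  rw [map_sub, show br 0 (t * y * bp) = 0 by rw [map_mul, brb', mul_zero], sub_zero, sub_sub_cancel,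
    bra, hh0] at h2
  exact final _ _ hg (by rw [map_mul]; exact mul_ne_zero ht fun h0 => hu ((hMK _).mpr h0)) h2

/-- the middle coefficient of a product -/
theorem dvd_coeff_prod_iff {ι : Type*} [Fintype ι] (P : ι → Polynomial ℤ) (n : ι → ℕ)
    (hlow : ∀ i, ∀ j < n i, (p : ℤ) ∣ (P i).coeff j) :
    (p : ℤ) ∣ (∏ i, P i).coeff (∑ i, n i) ↔ (p : ℤ) ∣ ∏ i, (P i).coeff (n i) := by
  have hdvd : ∀ i, Polynomial.X ^ n i ∣ (P i).map (Int.castRingHom (ZMod p)) := fun i =>
    Polynomial.X_pow_dvd_iff.mpr fun j hj => by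
      rw [Polynomial.coeff_map, eq_intCast, ZMod.intCast_zmod_eq_zero_iff_dvd]
      exact hlow i j hj
  choose G hG using hdvd
  have hco : ∀ i, (((P i).coeff (n i) : ℤ) : ZMod p) = (G i).coeff 0 := fun i => by
    have := congrArg (Polynomial.coeff · (n i)) (hG i)
    simpa [Polynomial.coeff_map, Polynomial.coeff_X_pow_mul'] using this
  rw [← ZMod.intCast_zmod_eq_zero_iff_dvd, ← ZMod.intCast_zmod_eq_zero_iff_dvd]
  have h2 : (((∏ i, P i).coeff (∑ i, n i) : ℤ) : ZMod p) = ((∏ i, (P i).coeff (n i) : ℤ) : ZMod p) := by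
    rw [← eq_intCast (Int.castRingHom (ZMod p)), ← Polynomial.coeff_map, Polynomial.map_prod,
      Finset.prod_congr rfl fun i _ => hG i, Finset.prod_mul_distrib, Finset.prod_pow_eq_pow_sum,
      Polynomial.coeff_X_pow_mul', if_pos le_rfl, Nat.sub_self, Polynomial.coeff_zero_prod, Int.cast_prod]
    exact (Finset.prod_congr rfl fun i _ => hco i).symm
  rw [h2]

end criterion

end Groth.Agent.WeilNum29

namespace Groth.Agent.WeilNum29

lemma eval_ne_zero_of_irreducible {P : Polynomial ℤ} (hP : P.Monic) (hirr : Irreducible P)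
    (hdeg : P.natDegree ≠ 1) (s : ℤ) : P.eval s ≠ 0 := by
  intro h0
  have hd : Polynomial.X - Polynomial.C s ∣ P := Polynomial.dvd_iff_isRoot.mpr h0
  obtain ⟨w, hw⟩ := hd
  rcases hirr.isUnit_or_isUnit hw with hu | hu
  · exact Polynomial.not_isUnit_X_sub_C s hu
  · refine hdeg ?_
    have hwd := Polynomial.natDegree_eq_zero_of_isUnit hu
    rw [hw, Polynomial.natDegree_mul (Polynomial.X_sub_C_ne_zero s) hu.ne_zero,
      Polynomial.natDegree_X_sub_C, hwd]

/-- nonrational Weil numbers for a square `q` are nonreal -/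
lemma nonreal_of_irreducible {p e : ℕ} {s : ℤ} (hs : s ^ 2 = (p : ℤ) ^ e) {P : Polynomial ℤ}
    (hP : P.Monic) (hirr : Irreducible P) (hdeg : P.natDegree ≠ 1)
    (hweil : ∀ z ∈ P.aroots ℂ, ‖z‖ = Real.sqrt ((p : ℝ) ^ e)) :
    ∀ z ∈ P.aroots ℂ, z.im ≠ 0 := by
  intro z hz him
  have hn := hweil z hz
  have hzr : z = (z.re : ℂ) := Complex.ext rfl (by simp [him])
  have hq : ((p : ℝ) ^ e) = (s : ℝ) ^ 2 := by exact_mod_cast hs.symm
  rw [hzr, Complex.norm_real, Real.norm_eq_abs, hq, Real.sqrt_sq_eq_abs] at hn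
  obtain ⟨t, ht⟩ : ∃ t : ℤ, z = (t : ℂ) := by
    rcases abs_eq_abs.mp hn with h | h
    · exact ⟨s, by rw [hzr, h]; simp⟩
    · exact ⟨-s, by rw [hzr, h]; simp⟩
  have h0 := (Polynomial.mem_aroots.mp hz).2
  rw [ht, Polynomial.aeval_def] at h0
  exact eval_ne_zero_of_irreducible hP hirr hdeg t (by
    have : ((P.eval t : ℤ) : ℂ) = 0 := by
      rw [← h0]; exact (Polynomial.eval₂_at_intCast (algebraMap ℤ ℂ) t).symm
    exact_mod_cast this)

end Groth.Agent.WeilNum29
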