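import Mathlib

/-!
The functional equation of a monic integer polynomial all of whose complex roots have absolute value
`√q`.
-/

open Polynomial

namespace Groth.Agent.WeilNum29

/-- all complex roots have absolute value `√q` -/
def IsWeilPoly (q : ℕ) (P : ℤ[X]) : Prop :=
  P.Monic ∧ ∀ z ∈ P.aroots ℂ, ‖z‖ = Real.sqrt (q : ℝ)

variable {q : ℕ} {P : ℤ[X]}

lemma mul_conj_of_norm {z : ℂ} (h : ‖z‖ = Real.sqrt (q : ℝ)) : z * starRingEnd ℂ z = (q : ℂ) := by
  rw [Complex.mul_conj', h, ← Complex.ofReal_pow, Real.sq_sqrt (Nat.cast_nonneg q),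
    Complex.ofReal_natCast]

lemma card_aroots (hP : P.Monic) : Multiset.card (P.aroots ℂ) = P.natDegree := by
  rw [aroots_def, IsAlgClosed.card_roots_eq_natDegree, hP.natDegree_map]

lemma map_conj_aroots (hP : P.Monic) : (P.aroots ℂ).map (starRingEnd ℂ) = P.aroots ℂ := by
  conv_rhs => rw [aroots_def, Subsingleton.elim (algebraMap ℤ ℂ)
    ((starRingEnd ℂ).comp (algebraMap ℤ ℂ)), ← Polynomial.map_map]
  rw [aroots_def]
  exact roots_map_of_injective_of_card_eq_natDegree (starRingEnd ℂ).injective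
    IsAlgClosed.card_roots_eq_natDegree

lemma map_eq_prod (hP : P.Monic) :
    P.map (algebraMap ℤ ℂ) = ((P.aroots ℂ).map fun z => X - C z).prod :=
  (prod_multiset_X_sub_C_of_monic_of_roots_card_eq (hP.map _)
    IsAlgClosed.card_roots_eq_natDegree).symm

lemma coeff_zero_eq_prod (hP : P.Monic) :
    ((P.coeff 0 : ℤ) : ℂ) = ((P.aroots ℂ).map fun z => -z).prod := by
  have h := congrArg (fun p => coeff p 0) (map_eq_prod hP)
  simp only [coeff_map, coeff_zero_multiset_prod, Multiset.map_map] at h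
  rw [eq_intCast] at h
  rw [h]
  exact congrArg Multiset.prod (Multiset.map_congr rfl fun z _ => by simp)

lemma reverse_comp_prod {F : Type*} [Field F] {c : F} (hc : c ≠ 0) (S : Multiset F) :
    C (c ^ Multiset.card S) * ((S.map fun z => X - C z).prod.reverse.comp (C c⁻¹ * X)) =
      (S.map fun z => C c - C z * X).prod := by
  induction S using Multiset.induction with
  | empty =>
    have h1 : (1 : F[X]).reverse = 1 := by rw [← Polynomial.C_1, Polynomial.reverse_C]
    simp [h1]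
  | cons z S ih =>
    have hlin : (X - C z : F[X]).reverse = 1 - C z * X := by
      rw [Polynomial.reverse, natDegree_X_sub_C]
      ext n
      rw [coeff_reflect]
      rcases n with _ | _ | n <;> simp [coeff_one, coeff_C, coeff_X, Polynomial.revAt_le]
      rw [Polynomial.revAt_eq_self_of_lt (by omega)]
      simp
    rw [Multiset.map_cons, Multiset.prod_cons, Multiset.map_cons, Multiset.prod_cons,
      reverse_mul_of_domain, mul_comp, Multiset.card_cons, pow_succ, map_mul, ← ih, hlin]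
    have e : C c * ((1 - C z * X : F[X]).comp (C c⁻¹ * X)) = C c - C z * X := by
      simp only [sub_comp, one_comp, mul_comp, C_comp, X_comp, mul_sub, mul_one]
      rw [mul_left_comm (C c) (C z), ← mul_assoc (C c), ← C_mul, mul_inv_cancel₀ hc, C_1, one_mul]
    rw [← e]
    ring

/-- the functional equation -/
theorem IsWeilPoly.refl_coeff (hq : q ≠ 0) (h : IsWeilPoly q P) {j : ℕ} (hj : j ≤ P.natDegree) :
    P.coeff j * (q : ℤ) ^ j = P.coeff 0 * P.coeff (P.natDegree - j) := by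
  obtain ⟨hP, hroots⟩ := h
  have hqC : (q : ℂ) ≠ 0 := Nat.cast_ne_zero.mpr hq
  set Pc := P.map (algebraMap ℤ ℂ) with hPc
  have key : C ((q : ℂ) ^ P.natDegree) * (Pc.reverse.comp (C (q : ℂ)⁻¹ * X)) =
      C ((P.coeff 0 : ℤ) : ℂ) * Pc := by
    rw [hPc, map_eq_prod hP, ← card_aroots hP, reverse_comp_prod hqC, coeff_zero_eq_prod hP,
      map_multiset_prod, Multiset.map_map]
    conv_rhs =>
      arg 2
      rw [← map_conj_aroots hP, Multiset.map_map]
    rw [← Multiset.prod_map_mul]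
    refine congrArg Multiset.prod (Multiset.map_congr rfl fun z hz => ?_)
    simp only [Function.comp_apply]
    rw [mul_sub, ← C_mul, neg_mul, mul_conj_of_norm (hroots z hz)]
    simp only [map_neg]
    ring
  have hc := congrArg (fun p => coeff p (P.natDegree - j)) key
  simp only [coeff_C_mul, comp_C_mul_X_coeff, coeff_reverse, hPc, coeff_map, eq_intCast,
    hP.natDegree_map] at hc
  rw [Polynomial.revAt_le (Nat.sub_le _ _), Nat.sub_sub_self hj] at hc
  have e : (q : ℂ) ^ P.natDegree * (q : ℂ)⁻¹ ^ (P.natDegree - j) = (q : ℂ) ^ j := by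
    rw [inv_pow, ← pow_sub₀ _ hqC (Nat.sub_le _ _), Nat.sub_sub_self hj]
  have : ((P.coeff j * (q : ℤ) ^ j : ℤ) : ℂ) =
      ((P.coeff 0 * P.coeff (P.natDegree - j) : ℤ) : ℂ) := by
    push_cast
    rw [← e, ← hc]
    ring
  exact_mod_cast this

theorem IsWeilPoly.coeff_zero_sq (hq : q ≠ 0) (h : IsWeilPoly q P) :
    P.coeff 0 ^ 2 = (q : ℤ) ^ P.natDegree := by
  have := h.refl_coeff hq (j := P.natDegree) le_rfl
  rw [Nat.sub_self, show P.coeff P.natDegree = 1 from h.1, one_mul] at this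
  rw [this, sq]

theorem IsWeilPoly.exists_sign (hq : q ≠ 0) (h : IsWeilPoly q P) {D : ℕ} (hD : P.natDegree = 2 * D) :
    ∃ ε : ℤ, ε * ε = 1 ∧ P.coeff 0 = ε * (q : ℤ) ^ D ∧
      ∀ r ≤ D, P.coeff (D - r) = ε * (q : ℤ) ^ r * P.coeff (D + r) := by
  have h2 := h.coeff_zero_sq hq
  rw [hD, mul_comm 2 D, pow_mul] at h2
  obtain ⟨ε, hε, h0⟩ : ∃ ε : ℤ, ε * ε = 1 ∧ P.coeff 0 = ε * (q : ℤ) ^ D := by
    rcases sq_eq_sq_iff_eq_or_eq_neg.mp h2 with h | h
    · exact ⟨1, rfl, by simp [h]⟩
    · exact ⟨-1, rfl, by simp [h]⟩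
  refine ⟨ε, hε, h0, fun r hr => ?_⟩
  have := h.refl_coeff hq (j := D - r) (by omega)
  rw [h0, show P.natDegree - (D - r) = D + r by omega] at this
  refine mul_right_cancel₀ (pow_ne_zero (D - r) (Int.natCast_ne_zero.mpr hq)) (this.trans ?_)
  rw [show ε * (q : ℤ) ^ r * P.coeff (D + r) * (q : ℤ) ^ (D - r) =
    ε * ((q : ℤ) ^ r * (q : ℤ) ^ (D - r)) * P.coeff (D + r) by ring, ← pow_add, Nat.add_sub_cancel' hr]

lemma isWeilPoly_prod {ι : Type*} (s : Finset ι) (P : ι → ℤ[X]) (hP : ∀ i ∈ s, IsWeilPoly q (P i)) :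
    IsWeilPoly q (∏ i ∈ s, P i) := by
  refine ⟨monic_prod_of_monic _ _ fun i hi => (hP i hi).1, fun z hz => ?_⟩
  rw [mem_aroots, map_prod] at hz
  obtain ⟨i, hi, h0⟩ := Finset.prod_eq_zero_iff.mp hz.2
  exact (hP i hi).2 z (mem_aroots.mpr ⟨(hP i hi).1.ne_zero, h0⟩)

lemma isWeilPoly_minpoly {p e : ℕ} {K : Type*} [Field K] [CharZero K] {π : K} (hπ : IsIntegral ℤ π)
    (hweil : ∀ z ∈ (minpoly ℤ π).aroots ℂ, ‖z‖ = Real.sqrt ((p : ℝ) ^ e)) :
    IsWeilPoly (p ^ e) (minpoly ℤ π) :=
  ⟨minpoly.monic hπ, fun z hz => by rw [hweil z hz]; push_cast; rfl⟩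

/-- no real roots: the degree is even and the constant term is positive -/
theorem IsWeilPoly.of_nonreal (h : IsWeilPoly q P)
    (hnr : ∀ z ∈ P.aroots ℂ, z.im ≠ 0) :
    Even P.natDegree ∧ P.coeff 0 = (q : ℤ) ^ (P.natDegree / 2) := by
  obtain ⟨hP, hroots⟩ := h
  classical
  set S := P.aroots ℂ with hS
  set T := S.filter fun z => 0 < z.im with hT
  have hsplit : S = T + T.map (starRingEnd ℂ) := by
    conv_lhs => rw [← Multiset.filter_add_not (fun z : ℂ => 0 < z.im) S]
    congr 1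
    conv_lhs => rw [hS, ← map_conj_aroots hP, Multiset.filter_map]
    rw [hT]
    congr 1
    refine Multiset.filter_congr fun z hz => ?_
    have := hnr z hz
    simp only [Function.comp_apply, Complex.conj_im, not_lt, neg_nonpos]
    exact ⟨fun h => lt_of_le_of_ne h (Ne.symm this), le_of_lt⟩
  have hn : P.natDegree = Multiset.card T + Multiset.card T := by
    rw [← card_aroots hP, ← hS]
    conv_lhs => rw [hsplit]
    rw [Multiset.card_add, Multiset.card_map]
  refine ⟨⟨_, hn⟩, ?_⟩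
  have : ((P.coeff 0 : ℤ) : ℂ) = (((q : ℤ) ^ (P.natDegree / 2) : ℤ) : ℂ) := by
    rw [coeff_zero_eq_prod hP, ← hS, show P.natDegree / 2 = Multiset.card T by omega, hsplit,
      Multiset.map_add, Multiset.prod_add, Multiset.map_map, ← Multiset.prod_map_mul]
    push_cast
    rw [← Multiset.prod_replicate, ← Multiset.map_const']
    refine congrArg Multiset.prod (Multiset.map_congr rfl fun z hz => ?_)
    have hz' : z ∈ P.aroots ℂ := Multiset.mem_of_mem_filter hz
    rw [Function.comp_apply, neg_mul_neg, mul_conj_of_norm (hroots z hz')]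
  exact_mod_cast this

end Groth.Agent.WeilNum29
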